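import Groth.Agent.TransRegLib.FlatNear
import Groth.Agent.RelDivLib.ImmBC
import Groth.Agent.RelDivLib.FlatBC
import Groth.Agent.RelDivLib.FibreQuasi
import Groth.Agent.RegSeqSlice.Scheme
import Groth.Agent.IdealStalkLib.Cartier
import Groth.Agent.FlatLocus.Scheme
import Groth.Agent.CILib.KoszulRegular
import Groth.Agent.LciH1Lib.Basic

/-!
# Transversal charts of immersions which are flat over the base
-/

set_option autoImplicit false
set_option linter.style.haveILetI false
set_option backward.isDefEq.respectTransparency false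
set_option maxHeartbeats 1600000

universe u

open CategoryTheory CategoryTheory.Limits AlgebraicGeometry IsLocalRing RingTheory.Sequence TensorProduct

namespace Groth.Agent.TransRegLib

variable {Z X S : Scheme.{u}}

/-- Near `i z` the immersion is cut out by flat coordinates. -/
def HasTransversalChart (f : X ⟶ S) (i : Z ⟶ X) (z : Z) : Prop :=
  ∃ (W : S.Opens) (U : X.Opens) (_ : IsAffineOpen W) (_ : IsAffineOpen U) (e : U ≤ f ⁻¹ᵁ W) (n : ℕ) (b : Fin n → Γ(X, U)),
    i z ∈ U ∧ IsClosedImmersion (i ∣_ U) ∧ RingHom.ker (i.app U).hom = Ideal.span (Set.range b) ∧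
    letI := (f.appLE W U e).hom.toAlgebra
    letI := (MvPolynomial.aeval (R := Γ(S, W)) b).toRingHom.toAlgebra
    Module.Flat (MvPolynomial (Fin n) Γ(S, W)) Γ(X, U)

/-- An immersion restricted to a smaller affine open. -/
theorem closed_and_ker_restrict (i : Z ⟶ X) {U V : X.Opens} (hU : IsAffineOpen U) (hc : IsClosedImmersion (i ∣_ U))
    (hV : IsAffineOpen V) (h : V ≤ U) :
    IsClosedImmersion (i ∣_ V) ∧
      RingHom.ker (i.app V).hom = (RingHom.ker (i.app U).hom).map (X.presheaf.map (homOfLE h).op).hom := by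
  obtain ⟨hcV, hk⟩ := RelDivLib.closed_and_ker_pullback (q := 𝟙 Z) (i' := i) (p := 𝟙 X)
    (IsPullback.of_horiz_isIso ⟨by simp⟩) hU hc hV (show V ≤ (𝟙 X) ⁻¹ᵁ U from h)
  refine ⟨hcV, hk.trans ?_⟩
  simp only [Scheme.Hom.appLE, Scheme.Hom.id_app, Category.id_comp]

/-- Passing to a basic open on which the coordinates are flat and generate the kernel. -/
theorem hasTransversalChart_of_basicOpen (f : X ⟶ S) (i : Z ⟶ X) (z : Z) {W : S.Opens} (hW : IsAffineOpen W)
    {U : X.Opens} (hU : IsAffineOpen U) (hc : IsClosedImmersion (i ∣_ U)) (e : U ≤ f ⁻¹ᵁ W) {n : ℕ}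
    (b : Fin n → Γ(X, U)) (t : Γ(X, U)) (hzt : i z ∈ X.basicOpen t)
    (hker : (RingHom.ker (i.app U).hom).map (X.presheaf.map (homOfLE (X.basicOpen_le t)).op).hom =
      (Ideal.span (Set.range b)).map (X.presheaf.map (homOfLE (X.basicOpen_le t)).op).hom)
    (hflat : letI := (f.appLE W U e).hom.toAlgebra
      letI := (MvPolynomial.aeval (R := Γ(S, W)) b).toRingHom.toAlgebra
      ∀ (B' : Type u) [CommRing B'] [Algebra Γ(X, U) B'] [Algebra (MvPolynomial (Fin n) Γ(S, W)) B']
        [IsScalarTower (MvPolynomial (Fin n) Γ(S, W)) Γ(X, U) B'],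
        IsLocalization.Away t B' → Module.Flat (MvPolynomial (Fin n) Γ(S, W)) B') :
    HasTransversalChart f i z := by
  let ρ := (X.presheaf.map (homOfLE (X.basicOpen_le t)).op).hom
  obtain ⟨hcD, hkD⟩ := closed_and_ker_restrict i hU hc (hU.basicOpen t) (X.basicOpen_le t)
  refine ⟨W, X.basicOpen t, hW, hU.basicOpen t, (X.basicOpen_le t).trans e, n, fun j => ρ (b j), hzt, hcD, ?_, ?_⟩
  · rw [hkD, hker, Ideal.map_span, ← Set.range_comp]
    rfl
  · letI : Algebra Γ(S, W) Γ(X, U) := (f.appLE W U e).hom.toAlgebra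
    letI : Algebra (MvPolynomial (Fin n) Γ(S, W)) Γ(X, U) := (MvPolynomial.aeval (R := Γ(S, W)) b).toRingHom.toAlgebra
    letI : Algebra Γ(S, W) Γ(X, X.basicOpen t) := (f.appLE W (X.basicOpen t) ((X.basicOpen_le t).trans e)).hom.toAlgebra
    letI : Algebra (MvPolynomial (Fin n) Γ(S, W)) Γ(X, X.basicOpen t) :=
      (MvPolynomial.aeval (R := Γ(S, W)) fun j => ρ (b j)).toRingHom.toAlgebra
    letI : Algebra Γ(X, U) Γ(X, X.basicOpen t) := ρ.toAlgebra
    haveI : IsScalarTower Γ(S, W) Γ(X, U) Γ(X, X.basicOpen t) := .of_algebraMap_eq fun r => by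
      show f.appLE W (X.basicOpen t) _ r = X.presheaf.map (homOfLE (X.basicOpen_le t)).op (f.appLE W U e r)
      rw [← CommRingCat.comp_apply, Scheme.Hom.appLE_map]
    haveI : IsScalarTower (MvPolynomial (Fin n) Γ(S, W)) Γ(X, U) Γ(X, X.basicOpen t) := .of_algebraMap_eq fun r => by
      show MvPolynomial.aeval (fun j => ρ (b j)) r = IsScalarTower.toAlgHom Γ(S, W) Γ(X, U) Γ(X, X.basicOpen t) (MvPolynomial.aeval b r)
      rw [MvPolynomial.comp_aeval_apply]
      rfl
    exact hflat Γ(X, X.basicOpen t) (hU.isLocalization_basicOpen t)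

/-- The stalk of the closed subscheme as a quotient, over the base. -/
theorem flat_quotient_stalk (f : X ⟶ S) (i : Z ⟶ X) (z : Z) (hi : Function.Surjective (i.stalkMap z))
    (hfl : ((i ≫ f).stalkMap z).hom.Flat) :
    letI := (f.stalkMap (i z)).hom.toAlgebra
    Module.Flat (S.presheaf.stalk (f (i z))) (X.presheaf.stalk (i z) ⧸ RingHom.ker (i.stalkMap z).hom) := by
  letI := (f.stalkMap (i z)).hom.toAlgebra
  letI : Algebra (S.presheaf.stalk (f (i z))) (Z.presheaf.stalk z) := ((i ≫ f).stalkMap z).hom.toAlgebra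
  haveI : Module.Flat (S.presheaf.stalk (f (i z))) (Z.presheaf.stalk z) := hfl
  exact Module.Flat.of_linearEquiv (AlgEquiv.ofRingEquiv (R := S.presheaf.stalk (f (i z)))
    (f := RingHom.quotientKerEquivOfSurjective (f := (i.stalkMap z).hom) hi) fun r => by
      show (i.stalkMap z).hom ((f.stalkMap (i z)).hom r) = ((i ≫ f).stalkMap z).hom r
      rw [Scheme.Hom.stalkMap_comp]
      rfl).toLinearEquiv

theorem ofList_eq_span_range_get {R : Type u} [CommRing R] (rs : List R) :
    Ideal.ofList rs = Ideal.span (Set.range rs.get) := by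
  rw [← RegIdealLib.ofList_ofFn, List.ofFn_get]

/-- An `H₁`-regular immersion which is flat over the base is cut out by flat coordinates. -/
theorem hasTransversalChart_of_h1 (f : X ⟶ S) [LocallyOfFinitePresentation f] (i : Z ⟶ X) [IsImmersion i] (z : Z)
    (hz : RegImm.IsRegularImmersionAt RegImm.Kind.h1 i z) (hfl : ((i ≫ f).stalkMap z).hom.Flat) :
    HasTransversalChart f i z := by
  obtain ⟨⟨U₀, hU₀⟩, hz₀, hc₀, rs, hrs, hK₀⟩ := hz
  obtain ⟨_, ⟨W : S.Opens, hW, rfl⟩, hzW, -⟩ :=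
    S.isBasis_affineOpens.exists_subset_of_mem_open (Set.mem_univ (f (i z))) isOpen_univ
  obtain ⟨t, htle, hzt⟩ := hU₀.exists_basicOpen_le (V := U₀ ⊓ f ⁻¹ᵁ W) ⟨i z, hz₀, hzW⟩ hz₀
  let U := X.basicOpen t
  have hU : IsAffineOpen U := hU₀.basicOpen t
  have e : U ≤ f ⁻¹ᵁ W := htle.trans inf_le_right
  obtain ⟨hc, hK⟩ := closed_and_ker_restrict i hU₀ hc₀ hU (X.basicOpen_le t)
  letI : Algebra Γ(X, U₀) Γ(X, U) := (X.presheaf.map (homOfLE (X.basicOpen_le t)).op).hom.toAlgebra
  haveI : IsLocalization.Away t Γ(X, U) := hU₀.isLocalization_basicOpen t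
  let b : Fin rs.length → Γ(X, U) := fun j => algebraMap Γ(X, U₀) Γ(X, U) (rs.get j)
  have hb : CAlgX.IsH1Regular b := RelDivLib.isH1Regular_map (Submonoid.powers t) hrs
  have hKb : RingHom.ker (i.app U).hom = Ideal.span (Set.range b) := by
    rw [hK, hK₀, ofList_eq_span_range_get, Ideal.map_span, ← Set.range_comp]
    rfl
  let x := i z
  let O := X.presheaf.stalk x
  let A := Γ(S, W)
  let q := (hU.primeIdealOf ⟨x, hzt⟩).asIdeal
  letI : Algebra Γ(X, U) O := TopCat.Presheaf.algebra_section_stalk X.presheaf ⟨x, hzt⟩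
  haveI := hU.isLocalization_stalk ⟨x, hzt⟩
  letI : Algebra A Γ(X, U) := (f.appLE W U e).hom.toAlgebra
  letI : Algebra A O := ((algebraMap Γ(X, U) O).comp (algebraMap A Γ(X, U))).toAlgebra
  haveI : IsScalarTower A Γ(X, U) O := .of_algebraMap_eq fun _ => rfl
  haveI : Algebra.FinitePresentation A Γ(X, U) := f.finitePresentation_appLE hW hU e
  letI : Algebra (MvPolynomial (Fin rs.length) A) Γ(X, U) := (MvPolynomial.aeval (R := A) b).toRingHom.toAlgebra
  haveI : IsScalarTower A (MvPolynomial (Fin rs.length) A) Γ(X, U) := IsScalarTower.of_algHom (MvPolynomial.aeval b)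
  haveI : Algebra.FinitePresentation (MvPolynomial (Fin rs.length) A) Γ(X, U) :=
    Algebra.FinitePresentation.of_restrict_scalars_finitePresentation A _ _
  have hkO : RingHom.ker (i.stalkMap z).hom = Ideal.span (Set.range fun j => algebraMap Γ(X, U) O (b j)) := by
    rw [RegIdealLib.ker_stalkMap i hU hc z hzt]
    show (RingHom.ker (i.app U).hom).map _ = _
    rw [hKb, Ideal.map_span, ← Set.range_comp]
    rfl
  haveI : Module.Flat A (O ⧸ Ideal.span (Set.range fun j => algebraMap Γ(X, U) O (b j))) := by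
    rw [← hkO]
    letI algST : Algebra A (S.presheaf.stalk (f x)) := TopCat.Presheaf.algebra_section_stalk S.presheaf ⟨f x, e hzt⟩
    haveI := hW.isLocalization_stalk ⟨f x, e hzt⟩
    letI := (f.stalkMap x).hom.toAlgebra
    haveI : IsScalarTower A (S.presheaf.stalk (f x)) O := .of_algebraMap_eq fun r => by
      show X.presheaf.germ U x hzt (f.appLE W U e r) = f.stalkMap x (S.presheaf.germ W (f x) (e hzt) r)
      rw [Scheme.Hom.germ_stalkMap_apply, Scheme.Hom.appLE, CommRingCat.comp_apply, X.presheaf.germ_res_apply]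
    haveI : Module.Flat (S.presheaf.stalk (f x)) (O ⧸ RingHom.ker (i.stalkMap z).hom) :=
      flat_quotient_stalk f i z (i.stalkMap_surjective z) hfl
    haveI : Module.Flat A (S.presheaf.stalk (f x)) :=
      IsLocalization.flat _ (hW.primeIdealOf ⟨f x, e hzt⟩).asIdeal.primeCompl
    exact Module.Flat.trans A (S.presheaf.stalk (f x)) _
  haveI : Module.Flat (MvPolynomial (Fin rs.length) A) (LocalizedModule q.primeCompl Γ(X, U)) :=
    flat_coordinates_atPrime b (fun j => MvPolynomial.aeval_X b j) q (fun j => by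
      refine (IsLocalization.AtPrime.to_map_mem_maximal_iff O q _).1 ?_
      exact le_maximalIdeal (RingHom.ker_ne_top (i.stalkMap z).hom) (hkO.ge (Ideal.subset_span ⟨j, rfl⟩))) O
      (RelDivLib.isH1Regular_map q.primeCompl hb)
  obtain ⟨g, hgq, hg⟩ := exists_flat_away (T := MvPolynomial (Fin rs.length) A) q
  refine hasTransversalChart_of_basicOpen f i z hW hU hc e b g ?_ (congrArg (Ideal.map _) hKb) ?_
  · rw [X.mem_basicOpen g x hzt]
    exact IsLocalization.map_units O (⟨g, hgq⟩ : q.primeCompl)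
  · intro B' _ _ _ _ h
    exact hg B' h

/-- A transversal chart makes the ambient family flat at the point. -/
theorem flat_stalkMap_of_hasTransversalChart {f : X ⟶ S} {i : Z ⟶ X} {z : Z} (h : HasTransversalChart f i z) :
    (f.stalkMap (i z)).hom.Flat := by
  obtain ⟨W, U, hW, hU, e, n, b, hzU, -, -, hfl⟩ := h
  rw [FlatLocus.flat_stalkMap_iff f hW hU e (i z) hzU]
  letI : Algebra Γ(S, W) Γ(X, U) := (f.appLE W U e).hom.toAlgebra
  letI : Algebra (MvPolynomial (Fin n) Γ(S, W)) Γ(X, U) := (MvPolynomial.aeval (R := Γ(S, W)) b).toRingHom.toAlgebra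
  haveI : IsScalarTower Γ(S, W) (MvPolynomial (Fin n) Γ(S, W)) Γ(X, U) := IsScalarTower.of_algHom (MvPolynomial.aeval b)
  haveI : Module.Flat (MvPolynomial (Fin n) Γ(S, W)) Γ(X, U) := hfl
  haveI : Module.Flat Γ(S, W) Γ(X, U) := Module.Flat.trans Γ(S, W) (MvPolynomial (Fin n) Γ(S, W)) Γ(X, U)
  exact Module.Flat.trans Γ(S, W) Γ(X, U) _

/-- A transversal chart gives a regular immersion after every base change. -/
theorem isRegularImmersionAt_of_isPullback {Z' X' S' : Scheme.{u}} {f : X ⟶ S} {i : Z ⟶ X} {g : S' ⟶ S}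
    {p : X' ⟶ X} {r : X' ⟶ S'} {i' : Z' ⟶ X'} {q : Z' ⟶ Z} (hcX : IsPullback p r f g) (hcZ : IsPullback q i' i p)
    (z' : Z') (h : HasTransversalChart f i (q z')) :
    RegImm.IsRegularImmersionAt RegImm.Kind.regular i' z' := by
  obtain ⟨W, U, hW, hU, e, n, b, hzU, hc, hK, hfl⟩ := h
  let x' := i' z'
  have hx' : p x' = i (q z') := by
    rw [← Scheme.Hom.comp_apply, ← hcZ.w, Scheme.Hom.comp_apply]
  have hx'W : r x' ∈ g ⁻¹ᵁ W := by
    show g (r x') ∈ W
    rw [← Scheme.Hom.comp_apply, ← hcX.w, Scheme.Hom.comp_apply, hx']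
    exact e hzU
  obtain ⟨_, ⟨W' : S'.Opens, hW', rfl⟩, hx'W', e'⟩ := S'.isBasis_affineOpens.exists_subset_of_mem_open hx'W (g ⁻¹ᵁ W).2
  obtain ⟨hP, hpo⟩ := PullbackMod.isPushout_appLE hcX hW hU hW' e e'
  let V := p ⁻¹ᵁ U ⊓ r ⁻¹ᵁ W'
  obtain ⟨hcV, hKV⟩ := RelDivLib.closed_and_ker_pullback hcZ hU hc hP (inf_le_left : V ≤ p ⁻¹ᵁ U)
  have hzV : x' ∈ V := ⟨by show p x' ∈ U; rw [hx']; exact hzU, hx'W'⟩
  letI : Algebra Γ(S, W) Γ(X, U) := (f.appLE W U e).hom.toAlgebra
  letI : Algebra (MvPolynomial (Fin n) Γ(S, W)) Γ(X, U) := (MvPolynomial.aeval (R := Γ(S, W)) b).toRingHom.toAlgebra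
  haveI : IsScalarTower Γ(S, W) (MvPolynomial (Fin n) Γ(S, W)) Γ(X, U) := IsScalarTower.of_algHom (MvPolynomial.aeval b)
  haveI : Module.Flat (MvPolynomial (Fin n) Γ(S, W)) Γ(X, U) := hfl
  letI : Algebra Γ(S, W) Γ(S', W') := (g.appLE W W' e').hom.toAlgebra
  letI : Algebra Γ(X, U) Γ(X', V) := (p.appLE U V inf_le_left).hom.toAlgebra
  letI : Algebra Γ(S', W') Γ(X', V) := (r.appLE W' V inf_le_right).hom.toAlgebra
  letI : Algebra Γ(S, W) Γ(X', V) := ((p.appLE U V inf_le_left).hom.comp (f.appLE W U e).hom).toAlgebra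
  haveI : IsScalarTower Γ(S, W) Γ(X, U) Γ(X', V) := .of_algebraMap_eq fun _ => rfl
  haveI : IsScalarTower Γ(S, W) Γ(S', W') Γ(X', V) := .of_algebraMap_eq' (by
    show ((f.appLE W U e) ≫ p.appLE U V inf_le_left).hom = ((g.appLE W W' e') ≫ r.appLE W' V inf_le_right).hom
    simp only [Scheme.Hom.appLE_comp_appLE, hcX.w])
  haveI : Algebra.IsPushout Γ(S, W) Γ(S', W') Γ(X, U) Γ(X', V) := hpo
  haveI : Algebra.IsPushout Γ(S, W) Γ(X, U) Γ(S', W') Γ(X', V) := Algebra.IsPushout.symm hpo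
  let E := Algebra.IsPushout.equiv Γ(S, W) Γ(X, U) Γ(S', W') Γ(X', V)
  let bP : Fin n → Γ(X', V) := fun j => algebraMap Γ(X, U) Γ(X', V) (b j)
  have hker : RingHom.ker (i'.app V).hom = Ideal.ofList (List.ofFn bP) := by
    rw [hKV, hK, RegIdealLib.ofList_ofFn, Ideal.map_span, ← Set.range_comp]
    rfl
  have h1 := RegSeqSlice.isWeaklyRegular_tensor (A := Γ(S, W)) (B := Γ(X, U)) (n := n) Γ(S', W')
  have hwr : IsWeaklyRegular Γ(X', V) (List.ofFn bP) := by
    refine (E.toRingEquiv.toAddEquiv.isWeaklyRegular_congr ?_).1 h1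
    rw [show List.ofFn bP = (List.ofFn fun j : Fin n => algebraMap Γ(X, U) (Γ(X, U) ⊗[Γ(S, W)] Γ(S', W'))
      (algebraMap (MvPolynomial (Fin n) Γ(S, W)) Γ(X, U) (MvPolynomial.X j))).map E from by
        rw [List.map_ofFn]
        refine congrArg List.ofFn (funext fun j => ?_)
        show algebraMap Γ(X, U) Γ(X', V) (b j) = _
        rw [Function.comp_apply, AlgEquiv.commutes]
        exact congrArg _ (MvPolynomial.aeval_X b j).symm]
    exact List.forall₂_map_right_iff.2 (List.forall₂_same.2 fun r _ y => map_mul E r y)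
  refine ⟨⟨V, hP⟩, hzV, hcV, List.ofFn bP, ⟨hwr, ?_⟩, hker⟩
  rw [smul_eq_mul, Ideal.mul_top, ← hker]
  exact (RelDivLib.ker_app_ne_top i' V z' hzV).symm

/-- A transversally cut-out immersion is regular. -/
theorem isRegularImmersionAt_self {f : X ⟶ S} {i : Z ⟶ X} (z : Z) (h : HasTransversalChart f i z) :
    RegImm.IsRegularImmersionAt RegImm.Kind.regular i z :=
  isRegularImmersionAt_of_isPullback (g := 𝟙 S) (p := 𝟙 X) (r := f) (IsPullback.of_horiz_isIso ⟨by simp⟩)
    (IsPullback.of_horiz_isIso (fst := 𝟙 Z) ⟨by simp⟩) z h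

/-- Regular sequences give `H₁`-regular immersions. -/
theorem isRegularImmersionAt_h1_of_regular {i : Z ⟶ X} {z : Z}
    (h : RegImm.IsRegularImmersionAt RegImm.Kind.regular i z) : RegImm.IsRegularImmersionAt RegImm.Kind.h1 i z := by
  obtain ⟨U, hz, hc, rs, hrs, hk⟩ := h
  exact ⟨U, hz, hc, rs, LciH1Lib.isH1Regular_get (CILib.isKoszulRegularSeq_of_isWeaklyRegular rs hrs.toIsWeaklyRegular), hk⟩

/-- A closed immersion, flat over the base, into a family flat at `i z` with regularly immersed fibre is cut out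
by flat coordinates. -/
theorem hasTransversalChart_of_fibre (f : X ⟶ S) [LocallyOfFinitePresentation f] (i : Z ⟶ X) [IsClosedImmersion i]
    [LocallyOfFinitePresentation (i ≫ f)] (s : S) (w : (i ≫ f).fiber s)
    (hf : (f.stalkMap (i ((i ≫ f).fiberι s w))).hom.Flat) (hfl : ((i ≫ f).stalkMap ((i ≫ f).fiberι s w)).hom.Flat)
    (hreg : RegImm.IsRegularImmersionAt RegImm.Kind.regular (MoreMor.fiberMap i f s) w) :
    HasTransversalChart f i ((i ≫ f).fiberι s w) := by
  classical
  haveI : LocallyOfFinitePresentation i := FlatLocus.locallyOfFinitePresentation_of_comp (f := i) (g := f)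
  let z := (i ≫ f).fiberι s w
  let x := i z
  let O := X.presheaf.stalk x
  let m := maximalIdeal (S.presheaf.stalk (f x))
  let φ := (f.stalkMap x).hom
  let σ := (i.stalkMap z).hom
  let ι' := MoreMor.fiberMap i f s
  obtain ⟨⟨U₁, hU₁⟩, hw₁, hc₁, rs, hrs, hK₁⟩ := hreg
  obtain ⟨hπs, hπk⟩ := FlatLocus.toFiberStalk_spec f s (ι' w) x (FlatLocus.fiberι_fiberMap i f s w)
  let π : O →+* (f.fiber s).presheaf.stalk (ι' w) :=
    (FlatLocus.toFiberStalk f s (ι' w) x (FlatLocus.fiberι_fiberMap i f s w)).hom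
  let φX := (((i ≫ f).fiberι s).stalkMap w).hom
  have hcomm : (ι'.stalkMap w).hom.comp π = φX.comp σ :=
    congrArg CommRingCat.Hom.hom (FlatLocus.toFiberStalk_comp i f s w)
  have hσ : Function.Surjective σ := i.stalkMap_surjective z
  have hJ : RingHom.ker (ι'.stalkMap w).hom = (RingHom.ker σ).map π := by
    refine le_antisymm (fun a ha => ?_) (Ideal.map_le_iff_le_comap.2 fun o ho => ?_)
    · obtain ⟨o, rfl⟩ := hπs a
      have h1 : σ o ∈ RingHom.ker φX := by
        rw [RingHom.mem_ker, ← RingHom.comp_apply, ← hcomm]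
        exact ha
      rw [show RingHom.ker φX = _ from FlatLocus.ker_fiberι_stalkMap (i ≫ f) s w, Scheme.Hom.stalkMap_comp,
        CommRingCat.hom_comp, ← Ideal.map_map, Ideal.mem_map_iff_of_surjective σ hσ] at h1
      obtain ⟨c, hc, hco⟩ := h1
      have h2 : o - c ∈ RingHom.ker σ := by rw [RingHom.mem_ker, map_sub, hco, sub_self]
      have h3 : π c = 0 := by
        rw [← RingHom.mem_ker]
        exact hπk.ge hc
      have h4 : π o = π (o - c) := by rw [map_sub, h3, sub_zero]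
      exact h4 ▸ Ideal.mem_map_of_mem π h2
    · rw [Ideal.mem_comap, RingHom.mem_ker, ← RingHom.comp_apply, hcomm, RingHom.comp_apply,
        show σ o = 0 from ho, map_zero]
  letI : Algebra Γ(f.fiber s, U₁) ((f.fiber s).presheaf.stalk (ι' w)) :=
    TopCat.Presheaf.algebra_section_stalk _ ⟨ι' w, hw₁⟩
  haveI := hU₁.isLocalization_stalk ⟨ι' w, hw₁⟩
  let r : Fin rs.length → (f.fiber s).presheaf.stalk (ι' w) :=
    fun j => algebraMap Γ(f.fiber s, U₁) _ (rs.get j)
  have hk₁ : RingHom.ker (ι'.stalkMap w).hom = Ideal.span (Set.range r) := by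
    rw [RegIdealLib.ker_stalkMap ι' hU₁ hc₁ w hw₁]
    show (RingHom.ker (ι'.app U₁).hom).map _ = _
    rw [hK₁, ofList_eq_span_range_get, Ideal.map_span, ← Set.range_comp]
    rfl
  haveI : Module.Flat Γ(f.fiber s, U₁) ((f.fiber s).presheaf.stalk (ι' w)) :=
    IsLocalization.flat _ (hU₁.primeIdealOf ⟨ι' w, hw₁⟩).asIdeal.primeCompl
  have hrw : IsWeaklyRegular ((f.fiber s).presheaf.stalk (ι' w)) (List.ofFn r) := by
    rw [show List.ofFn r = rs.map (algebraMap Γ(f.fiber s, U₁) _) from by rw [← List.ofFn_getElem_eq_map]; rfl]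
    exact IsWeaklyRegular.of_flat hrs.toIsWeaklyRegular
  choose h hhJ hhr using fun j => (Ideal.mem_map_iff_of_surjective π hπs).1
    (show r j ∈ (RingHom.ker σ).map π from hJ ▸ hk₁.ge (Ideal.subset_span (Set.mem_range_self j)))
  have hm : ∀ j, h j ∈ maximalIdeal O := fun j => le_maximalIdeal (RingHom.ker_ne_top σ) (hhJ j)
  have hle : RingHom.ker σ ≤ Ideal.span (Set.range h) ⊔ m.map φ := by
    intro a ha
    have h1 : π a ∈ (Ideal.span (Set.range h)).map π := by
      rw [Ideal.map_span, ← Set.range_comp, show π ∘ h = r from funext hhr, ← hk₁, hJ]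
      exact Ideal.mem_map_of_mem π ha
    have h2 := Ideal.mem_comap.2 h1
    rwa [Ideal.comap_map_of_surjective _ hπs, ← RingHom.ker_eq_comap_bot, show RingHom.ker π = _ from hπk] at h2
  have hwr : IsWeaklyRegular (O ⧸ m.map φ) (List.ofFn fun j => Ideal.Quotient.mk (m.map φ) (h j)) := by
    let e := (Ideal.quotEquivOfEq hπk.symm).trans (RingHom.quotientKerEquivOfSurjective (f := π) hπs)
    rw [show r = fun j => e (Ideal.Quotient.mk (m.map φ) (h j)) from funext fun j => (hhr j).symm] at hrw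
    refine (e.toAddEquiv.isWeaklyRegular_congr ?_).2 hrw
    refine List.forall₂_iff_get.2 ⟨by simp, fun k h₁ h₂ y => ?_⟩
    simp only [List.get_eq_getElem, List.getElem_ofFn, smul_eq_mul]
    exact map_mul e _ _
  obtain ⟨W, U, hW, hU, hxU, e, b, hb, hflb⟩ :=
    RegSeqSlice.exists_flat_coordinates f x hf h hm hwr
  have hc : IsClosedImmersion (i ∣_ U) :=
    IsZariskiLocalAtTarget.restrict (P := @IsClosedImmersion) (inferInstanceAs (IsClosedImmersion i)) U
  obtain ⟨haff, hsurj⟩ := RegIdealLib.affine_and_surjective i hU hc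
  have hKfg : (RingHom.ker (i.app U).hom).FG := by
    have h1 := i.finitePresentation_appLE hU haff le_rfl
    rw [← Scheme.Hom.app_eq_appLE] at h1
    letI := (i.app U).hom.toAlgebra
    haveI : Algebra.FinitePresentation Γ(X, U) Γ(Z, i ⁻¹ᵁ U) := h1
    exact Algebra.FinitePresentation.ker_fG_of_surjective (Algebra.ofId Γ(X, U) Γ(Z, i ⁻¹ᵁ U)) hsurj
  letI : Algebra Γ(X, U) O := TopCat.Presheaf.algebra_section_stalk X.presheaf ⟨x, hxU⟩
  haveI := hU.isLocalization_stalk ⟨x, hxU⟩
  have hkO : RingHom.ker σ = (RingHom.ker (i.app U).hom).map (algebraMap Γ(X, U) O) :=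
    RegIdealLib.ker_stalkMap i hU hc z hxU
  have hsub : Ideal.span (Set.range h) ≤ RingHom.ker σ := Ideal.span_le.2 (Set.range_subset_iff.2 hhJ)
  have hJh : RingHom.ker σ = Ideal.span (Set.range h) := by
    letI : Algebra (S.presheaf.stalk (f x)) O := φ.toAlgebra
    haveI : Module.Flat (S.presheaf.stalk (f x)) (O ⧸ RingHom.ker σ) := flat_quotient_stalk f i z hσ hfl
    refine le_antisymm ?_ hsub
    refine Submodule.le_of_le_smul_of_le_jacobson_bot (I := maximalIdeal O) (hkO ▸ hKfg.map _)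
      (maximalIdeal_le_jacobson _) fun v hv => ?_
    obtain ⟨a, ha, c, hc, rfl⟩ := Submodule.mem_sup.1 (hle hv)
    refine Submodule.add_mem_sup ha ?_
    have hcJ : c ∈ RingHom.ker σ := by simpa using sub_mem hv (hsub ha)
    have h2 := IdealStalkLib.mem_map_mul_of_flat_quotient (RingHom.ker σ) m hcJ hc
    refine Ideal.mul_mono_left ?_ h2
    exact ((local_hom_TFAE (algebraMap (S.presheaf.stalk (f x)) O)).out 0 2).1
      (show IsLocalHom (f.stalkMap x).hom from inferInstance)
  obtain ⟨t, htq, ht⟩ := IdealStalkLib.exists_notMem_map_away_eq (O := O) (hU.primeIdealOf ⟨x, hxU⟩).asIdeal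
    (RingHom.ker (i.app U).hom) (Ideal.span (Set.range b)) hKfg (Submodule.fg_span (Set.finite_range b)) (by
      rw [← hkO, hJh, Ideal.map_span, ← Set.range_comp]
      exact congrArg Ideal.span (congrArg Set.range (funext fun j => (hb j).symm)))
  letI : Algebra Γ(X, U) Γ(X, X.basicOpen t) := (X.presheaf.map (homOfLE (X.basicOpen_le t)).op).hom.toAlgebra
  haveI : IsLocalization.Away t Γ(X, X.basicOpen t) := hU.isLocalization_basicOpen t
  refine hasTransversalChart_of_basicOpen f i z hW hU hc e b t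
    ((X.mem_basicOpen t x hxU).2 (IsLocalization.map_units O (⟨t, htq⟩ : (hU.primeIdealOf ⟨x, hxU⟩).asIdeal.primeCompl)))
    (ht _ (IsLocalization.Away.algebraMap_isUnit t)) ?_
  intro B' _ _ _ _ hB'
  letI : Algebra Γ(S, W) Γ(X, U) := (f.appLE W U e).hom.toAlgebra
  letI : Algebra (MvPolynomial (Fin rs.length) Γ(S, W)) Γ(X, U) := (MvPolynomial.aeval (R := Γ(S, W)) b).toRingHom.toAlgebra
  haveI : Module.Flat (MvPolynomial (Fin rs.length) Γ(S, W)) Γ(X, U) := hflb
  haveI : Module.Flat Γ(X, U) B' := IsLocalization.flat _ (Submonoid.powers t)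
  exact Module.Flat.trans (MvPolynomial (Fin rs.length) Γ(S, W)) Γ(X, U) B'

end Groth.Agent.TransRegLib
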