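import Mathlib
import Groth.Prelude.Def_CInt
import Groth.Prelude.Def_CAlgX
import Groth.Agent.FlatLocus.Main
import Groth.Agent.CMFlatLib.Locus
import Groth.Agent.CMFlatLib.Affine

/-!
# A sequence with vanishing first Koszul homology and flat quotient defines a flat map to affine space
-/

set_option autoImplicit false
set_option linter.style.haveILetI false

universe u

open TensorProduct MvPolynomial

namespace Groth.Agent.TransRegLib

/-- If coordinates have vanishing `H₁` on `M` and `M/(x)M` is flat over `A`, then `M ⊗ p' → M` is injective for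
every ideal `p'` containing the coordinates. -/
theorem lTensor_subtype_injective_of_koszulH1 {A T M : Type u} [CommRing A] [CommRing T] [Algebra A T] {n : ℕ}
    (x : Fin n → T) (hT : ∀ t : T, ∃ a : A, t - algebraMap A T a ∈ Ideal.span (Set.range x))
    [AddCommGroup M] [Module T M] [Module A M] [IsScalarTower A T M]
    (hH : CInt.KoszulH1Zero x M)
    [Module.Flat A (M ⧸ (Ideal.span (Set.range x) • ⊤ : Submodule T M).restrictScalars A)]
    (p' : Ideal T) (hp' : ∀ i, x i ∈ p') :
    Function.Injective (p'.subtype.lTensor M) := by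
  classical
  let p : Ideal A := p'.comap (algebraMap A T)
  let μ : (Fin n → M) →ₗ[A] M := ∑ i, (DistribSMul.toLinearMap A M (x i)) ∘ₗ LinearMap.proj i
  have hμ : ∀ v, μ v = ∑ i, x i • v i := fun v => by simp [μ]
  let N := (Ideal.span (Set.range x) • ⊤ : Submodule T M).restrictScalars A
  let q : M →ₗ[A] M ⧸ N := N.mkQ
  have hμq : Function.Exact μ q := fun m => by
    rw [show q m = Submodule.Quotient.mk m from rfl, Submodule.Quotient.mk_eq_zero]
    constructor
    · intro hm
      refine Submodule.smul_induction_on (p := fun z => z ∈ Set.range μ)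
        (show m ∈ (Ideal.span (Set.range x) • ⊤ : Submodule T M) from hm) (fun r hr y _ => ?_) fun a b ha hb => ?_
      · obtain ⟨c, rfl⟩ := Ideal.mem_span_range_iff_exists_fun.1 hr
        refine ⟨fun i => c i • y, ?_⟩
        rw [hμ, Finset.sum_smul]
        exact Finset.sum_congr rfl fun i _ => by rw [smul_smul, mul_comm]
      · obtain ⟨v, rfl⟩ := ha; obtain ⟨w, rfl⟩ := hb
        exact ⟨v + w, map_add _ _ _⟩
    · rintro ⟨v, rfl⟩
      rw [hμ]
      show ∑ i, x i • v i ∈ (Ideal.span (Set.range x) • ⊤ : Submodule T M)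
      exact Submodule.sum_mem _ fun i _ => Submodule.smul_mem_smul (Ideal.subset_span ⟨i, rfl⟩) Submodule.mem_top
  let ι : M ⊗[A] p →ₗ[A] M ⊗[T] p' := TensorProduct.lift (LinearMap.mk₂ A
    (fun m a => m ⊗ₜ[T] (⟨algebraMap A T a.1, a.2⟩ : p'))
    (fun m m' a => TensorProduct.add_tmul m m' _)
    (fun c m a => (TensorProduct.smul_tmul' c m _).symm)
    (fun m a b => by rw [← TensorProduct.tmul_add]; congr 1; exact Subtype.ext (map_add _ a.1 b.1))
    (fun c m a => by
      rw [← TensorProduct.tmul_smul]
      congr 1
      exact Subtype.ext (show algebraMap A T (c * a.1) = c • algebraMap A T a.1 by rw [map_mul, Algebra.smul_def])))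
  have hι : ∀ (m : M) (a : p), ι (m ⊗ₜ a) = m ⊗ₜ[T] (⟨algebraMap A T a.1, a.2⟩ : p') := fun m a => rfl
  let L : (Fin n → M) →ₗ[T] M ⊗[T] p' :=
    ∑ i, ((TensorProduct.mk T M p').flip ⟨x i, hp' i⟩) ∘ₗ LinearMap.proj i
  have hL : ∀ v, L v = ∑ i, v i ⊗ₜ[T] (⟨x i, hp' i⟩ : p') := fun v => by simp [L]
  let val : M ⊗[T] p' →ₗ[T] M := (TensorProduct.rid T M).toLinearMap ∘ₗ p'.subtype.lTensor M
  have hvalι : ∀ w, val (ι w) = TensorProduct.rid A M (p.subtype.lTensor M w) := fun w => by
    induction w with
    | zero => simp
    | tmul m a =>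
      rw [hι]
      show algebraMap A T a.1 • m = a.1 • m
      exact algebraMap_smul T a.1 m
    | add u v hu hv => simp only [map_add, hu, hv]
  have hvalL : ∀ v, val (L v) = ∑ i, x i • v i := fun v => by
    rw [hL, map_sum]; rfl
  have hdec : ∀ z : M ⊗[T] p', ∃ (v : Fin n → M) (w : M ⊗[A] p), z = L v + ι w := fun z => by
    induction z with
    | zero => exact ⟨0, 0, by simp⟩
    | tmul m f =>
      obtain ⟨a, ha⟩ := hT f.1
      obtain ⟨c, hc⟩ := Ideal.mem_span_range_iff_exists_fun.1 ha
      have hC : algebraMap A T a ∈ p' := by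
        have h2 : f.1 - (f.1 - algebraMap A T a) ∈ p' :=
          sub_mem f.2 (hc ▸ Submodule.sum_mem _ fun i _ => Ideal.mul_mem_left _ _ (hp' i))
        rwa [sub_sub_cancel] at h2
      refine ⟨fun i => c i • m, m ⊗ₜ[A] ⟨a, hC⟩, ?_⟩
      rw [hι, hL]
      simp_rw [TensorProduct.smul_tmul, ← TensorProduct.tmul_sum, ← TensorProduct.tmul_add]
      congr 1
      refine Subtype.ext ?_
      simp only [Submodule.coe_add, Submodule.coe_sum, Submodule.coe_smul, smul_eq_mul]
      rw [hc, sub_add_cancel]
    | add u v hu hv =>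
      obtain ⟨m, w, rfl⟩ := hu
      obtain ⟨m', w', rfl⟩ := hv
      exact ⟨m + m', w + w', by rw [map_add, map_add]; abel⟩
  have himg : ∀ w : (Fin n → M) ⊗[A] p, ∃ v, ι (μ.rTensor p w) = L v := fun w => by
    induction w with
    | zero => exact ⟨0, by simp⟩
    | tmul v a =>
      refine ⟨fun i => algebraMap A T a.1 • v i, ?_⟩
      rw [LinearMap.rTensor_tmul, hι, hμ, TensorProduct.sum_tmul, hL]
      refine Finset.sum_congr rfl fun i _ => ?_
      rw [TensorProduct.smul_tmul, TensorProduct.smul_tmul]
      congr 1
      exact Subtype.ext (mul_comm _ _)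
    | add u v hu hv =>
      obtain ⟨m, hm⟩ := hu
      obtain ⟨m', hm'⟩ := hv
      exact ⟨m + m', by rw [map_add, map_add, hm, hm', map_add]⟩
  refine (injective_iff_map_eq_zero _).2 fun z hz => ?_
  have hz' : val z = 0 := by
    show TensorProduct.rid T M (p'.subtype.lTensor M z) = 0
    rw [hz, map_zero]
  obtain ⟨v, w, rfl⟩ := hdec z
  have h1 : q.rTensor p w = 0 := by
    refine Module.Flat.lTensor_preserves_injective_linearMap (M := M ⧸ N) p.subtype Subtype.val_injective ?_
    rw [map_zero, ← LinearMap.comp_apply, LinearMap.lTensor_comp_rTensor, ← LinearMap.rTensor_comp_lTensor,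
      LinearMap.comp_apply]
    refine (TensorProduct.rid A (M ⧸ N)).injective ?_
    have h2 : ∀ v : M ⊗[A] A, TensorProduct.rid A (M ⧸ N) (q.rTensor A v) = q (TensorProduct.rid A M v) := fun v => by
      induction v with
      | zero => simp
      | tmul m a => rw [LinearMap.rTensor_tmul, TensorProduct.rid_tmul, TensorProduct.rid_tmul, map_smul]
      | add u v hu hv => simp only [map_add, hu, hv]
    rw [h2, map_zero, ← hvalι]
    refine (hμq _).2 ⟨-v, ?_⟩
    rw [map_neg, hμ, ← hvalL]
    rw [map_add] at hz'
    exact neg_eq_of_add_eq_zero_right hz'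
  obtain ⟨w', rfl⟩ := (rTensor_exact p hμq (Submodule.mkQ_surjective _) w).1 h1
  obtain ⟨v', hv'⟩ := himg w'
  rw [hv', ← map_add] at hz' ⊢
  rw [hvalL] at hz'
  have h3 := hH _ hz'
  refine LinearMap.mem_ker.1 (Submodule.span_le.2 ?_ h3)
  rintro _ ⟨i, j, y, rfl⟩
  rw [SetLike.mem_coe, LinearMap.mem_ker, map_sub, map_smul, map_smul, hL, hL]
  rw [Finset.sum_eq_single i (fun k _ hk => by simp [hk]) (by simp),
    Finset.sum_eq_single j (fun k _ hk => by simp [hk]) (by simp), Pi.single_eq_same, Pi.single_eq_same,
    ← TensorProduct.tmul_smul, ← TensorProduct.tmul_smul, sub_eq_zero]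
  congr 1
  exact Subtype.ext (mul_comm _ _)

theorem exists_sub_C_mem {A : Type u} [CommRing A] {n : ℕ} (g : MvPolynomial (Fin n) A) :
    ∃ a : A, g - algebraMap A (MvPolynomial (Fin n) A) a ∈
      Ideal.span (Set.range fun i : Fin n => (X i : MvPolynomial (Fin n) A)) := by
  refine ⟨constantCoeff g, ?_⟩
  induction g using MvPolynomial.induction_on with
  | C a => rw [constantCoeff_C, MvPolynomial.algebraMap_eq, sub_self]; exact Submodule.zero_mem _
  | add a b ha hb =>
    rw [map_add, map_add, add_sub_add_comm]
    exact add_mem ha hb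
  | mul_X a i _ =>
    simp only [map_mul, constantCoeff_X, mul_zero, map_zero, sub_zero]
    exact Ideal.mul_mem_left _ _ (Ideal.subset_span ⟨i, rfl⟩)

set_option backward.isDefEq.respectTransparency false

/-- An `H₁`-regular family with flat quotient at a prime gives flat coordinates at that prime. -/
theorem flat_coordinates_atPrime {A B : Type u} [CommRing A] [CommRing B] [Algebra A B]
    [Algebra.FinitePresentation A B] {n : ℕ} [Algebra (MvPolynomial (Fin n) A) B]
    [IsScalarTower A (MvPolynomial (Fin n) A) B] (b : Fin n → B)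
    (hb : ∀ i, algebraMap (MvPolynomial (Fin n) A) B (X i) = b i) (q : Ideal B) [q.IsPrime] (hq : ∀ i, b i ∈ q)
    (O : Type u) [CommRing O] [Algebra B O] [IsLocalization.AtPrime O q]
    (hH : CAlgX.IsH1Regular fun i => algebraMap B O (b i))
    [Algebra A O] [IsScalarTower A B O]
    [Module.Flat A (O ⧸ Ideal.span (Set.range fun i => algebraMap B O (b i)))] :
    Module.Flat (MvPolynomial (Fin n) A) (LocalizedModule q.primeCompl B) := by
  classical
  let T := MvPolynomial (Fin n) A
  let M := LocalizedModule q.primeCompl B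
  haveI : Algebra.FinitePresentation T B := Algebra.FinitePresentation.of_restrict_scalars_finitePresentation A T B
  letI : Algebra T O := ((algebraMap B O).comp (algebraMap T B)).toAlgebra
  haveI : IsScalarTower T B O := IsScalarTower.of_algebraMap_eq fun _ => rfl
  haveI : IsScalarTower A T O := IsScalarTower.of_algebraMap_eq fun a => by
    show algebraMap A O a = algebraMap B O (algebraMap T B (algebraMap A T a))
    rw [← IsScalarTower.algebraMap_apply A T B, ← IsScalarTower.algebraMap_apply A B O]
  let E : M ≃ₗ[B] O := IsLocalizedModule.iso q.primeCompl (Algebra.linearMap B O)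
  let ET : M ≃ₗ[T] O := E.restrictScalars T
  have hXO : ∀ i, algebraMap T O (X i) = algebraMap B O (b i) := fun i => by rw [← hb]; rfl
  refine FlatLocus.flat_of_lTensor_injective_fp (M := B) q ?_
  haveI : Module.Flat A (M ⧸ (Ideal.span (Set.range fun i : Fin n => (X i : T)) • ⊤ : Submodule T M).restrictScalars A) := by
    refine Module.Flat.of_linearEquiv (M := O ⧸ Ideal.span (Set.range fun i => algebraMap B O (b i))) ?_
    refine Submodule.Quotient.equiv _ ((Ideal.span (Set.range fun i => algebraMap B O (b i))).restrictScalars A)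
      (ET.restrictScalars A) ?_
    ext z
    rw [Submodule.mem_map]
    constructor
    · rintro ⟨y, hy, rfl⟩
      have h1 := Submodule.mem_map_of_mem (f := ET.toLinearMap) hy
      rw [Submodule.map_smul'', Submodule.map_top, LinearEquiv.range, Ideal.smul_top_eq_map, Ideal.map_span,
        ← Set.range_comp, show algebraMap T O ∘ (fun i : Fin n => (X i : T)) = fun i => algebraMap B O (b i) from funext hXO] at h1
      exact h1
    · intro hz
      refine ⟨ET.symm z, ?_, ET.apply_symm_apply z⟩
      have h1 : z ∈ (Ideal.span (Set.range fun i : Fin n => (X i : T)) • ⊤ : Submodule T O) := by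
        rw [Ideal.smul_top_eq_map, Ideal.map_span, ← Set.range_comp,
          show algebraMap T O ∘ (fun i : Fin n => (X i : T)) = fun i => algebraMap B O (b i) from funext hXO]
        exact hz
      have h2 := Submodule.mem_map_of_mem (f := ET.symm.toLinearMap) h1
      rwa [Submodule.map_smul'', Submodule.map_top, LinearEquiv.range] at h2
  refine lTensor_subtype_injective_of_koszulH1 (A := A) (fun i : Fin n => (X i : T)) exists_sub_C_mem ?_ _ fun i => by
    rw [Ideal.mem_comap, hb]; exact hq i
  intro m hm
  have hsm : ∀ (i : Fin n) (z : M), E ((X i : T) • z) = algebraMap B O (b i) * E z := fun i z => by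
    rw [← algebraMap_smul B (X i : T) z, hb, map_smul, Algebra.smul_def]
  have h1 : ∑ i, ET (m i) * algebraMap B O (b i) = 0 := by
    rw [← map_zero ET, ← hm, map_sum]
    refine Finset.sum_congr rfl fun i _ => ?_
    exact (mul_comm _ _).trans (hsm i (m i)).symm
  have h2 := hH _ h1
  let P := Submodule.span T
    {v : Fin n → M | ∃ (i j : Fin n) (x : M), v = (X j : T) • (Pi.single i x : Fin n → M) - (X i : T) • (Pi.single j x : Fin n → M)}
  suffices h3 : ∀ y ∈ Submodule.span O {v : Fin n → O | ∃ i j : Fin n, v = Pi.single i (algebraMap B O (b j)) -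
      Pi.single j (algebraMap B O (b i))}, ∀ c : O, (fun k => ET.symm (c * y k)) ∈ P by
    have h4 := h3 _ h2 1
    simpa using h4
  intro y hy
  induction hy using Submodule.span_induction with
  | mem y hy =>
    obtain ⟨i, j, rfl⟩ := hy
    intro c
    refine Submodule.subset_span ⟨i, j, E.symm c, funext fun k => E.injective ?_⟩
    show E (E.symm (c * (_ - _))) = E ((X j : T) • (Pi.single i (E.symm c) : Fin n → M) k - (X i : T) • (Pi.single j (E.symm c) : Fin n → M) k)
    rw [map_sub, hsm, hsm, LinearEquiv.apply_symm_apply, mul_sub]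
    simp only [Pi.single_apply]
    split_ifs <;> simp [mul_comm]
  | zero =>
    intro c
    rw [show (fun k => ET.symm (c * (0 : Fin n → O) k)) = 0 from funext fun k => by simp]
    exact Submodule.zero_mem P
  | add u v _ _ hu hv =>
    intro c
    have := Submodule.add_mem P (hu c) (hv c)
    simpa [mul_add, Pi.add_def] using! this
  | smul a u _ hu =>
    intro c
    simpa [mul_assoc] using hu (c * a)

/-- Flat coordinates at a prime spread out to a basic open. -/
theorem exists_flat_away {T B : Type u} [CommRing T] [CommRing B] [Algebra T B] [Algebra.FinitePresentation T B]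
    (q : Ideal B) [q.IsPrime] [Module.Flat T (LocalizedModule q.primeCompl B)] :
    ∃ g ∉ q, ∀ (B' : Type u) [CommRing B'] [Algebra B B'] [Algebra T B'] [IsScalarTower T B B'],
      IsLocalization.Away g B' → Module.Flat T B' := by
  have hq : Module.Flat T (Localization.AtPrime q) :=
    Module.Flat.of_linearEquiv
      ((IsLocalizedModule.iso q.primeCompl (Algebra.linearMap B (Localization.AtPrime q))).restrictScalars T).symm
  obtain ⟨_, ⟨g, rfl⟩, hgq, hgsub⟩ := PrimeSpectrum.isTopologicalBasis_basic_opens.exists_subset_of_mem_open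
    (show (⟨q, inferInstance⟩ : PrimeSpectrum B) ∈ {P : PrimeSpectrum B | Module.Flat T (Localization.AtPrime P.asIdeal)} from hq)
    (CMFlatLib.isOpen_flat_atPrime (A := T) (B := B))
  refine ⟨g, hgq, fun B' _ _ _ _ _ => ?_⟩
  haveI : Module.Flat T (Localization.Away g) :=
    CMFlatLib.flat_of_localizations fun P _ => by
      haveI : (P.under B).IsPrime := Ideal.IsPrime.comap _
      have hg' : g ∉ P.under B := fun h => (Ideal.IsMaximal.ne_top ‹_›)
        (P.eq_top_of_isUnit_mem h (IsLocalization.Away.algebraMap_isUnit g))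
      haveI : Module.Flat T (Localization.AtPrime (P.under B)) :=
        hgsub (show (⟨P.under B, inferInstance⟩ : PrimeSpectrum B) ∈ (PrimeSpectrum.basicOpen g : Set (PrimeSpectrum B)) from hg')
      haveI : IsLocalization.AtPrime (Localization.AtPrime P) (P.under B) :=
        IsLocalization.isLocalization_isLocalization_atPrime_isLocalization (Submonoid.powers g) (Localization.AtPrime P) P
      exact Module.Flat.of_linearEquiv ((IsLocalization.algEquiv (P.under B).primeCompl (Localization.AtPrime P)
        (Localization.AtPrime (P.under B))).toLinearEquiv.restrictScalars T)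
  exact Module.Flat.of_linearEquiv
    ((IsLocalization.algEquiv (Submonoid.powers g) (Localization.Away g) B').toLinearEquiv.restrictScalars T).symm

end Groth.Agent.TransRegLib
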