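import Groth.Agent.TransRegLib.Local
import Groth.Agent.RegImmLimLib.Stage
import Groth.Agent.RegKindDescLib.Scheme
import Groth.Agent.RegIdealLib.Immersion
import Groth.Agent.AffLim.DescendQF
import Groth.Agent.PullbackMod.LimOpen

/-!
# Transversally regular immersions in limits of schemes
-/

set_option autoImplicit false
set_option backward.isDefEq.respectTransparency false
set_option backward.defeqAttrib.useBackward true
set_option linter.style.haveILetI false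
set_option linter.unusedSectionVars false

universe u

open CategoryTheory CategoryTheory.Limits AlgebraicGeometry RingTheory.Sequence
open Groth.Agent

noncomputable section

namespace Groth.Agent.TransRegLib

section Algebra

variable {A B : Type u} [CommRing A] [CommRing B] [Algebra A B] (S : PullbackMod.AlgSystem A B)

/-- The extension of an ideal to the colimit comes from the extensions to the stages. -/
theorem exists_mem_map {J : Ideal A} {b : B} (hb : b ∈ J.map (algebraMap A B)) :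
    ∀ j : S.J, ∃ (k : S.J) (_ : S.Hom j k), ∃ a ∈ J.map (algebraMap A (S.R k)), S.ρ k a = b := by
  have htau : ∀ {k l : S.J} (f : S.Hom k l) {a : S.R k}, a ∈ J.map (algebraMap A (S.R k)) →
      S.τ f a ∈ J.map (algebraMap A (S.R l)) := by
    intro k l f a ha
    have h1 := Ideal.mem_map_of_mem (S.τ f).toRingHom ha
    rw [Ideal.map_map] at h1
    rwa [show (S.τ f).toRingHom.comp (algebraMap A (S.R k)) = algebraMap A (S.R l) from
      (S.τ f).comp_algebraMap] at h1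
  induction hb using Submodule.span_induction with
  | mem x hx =>
    intro j
    obtain ⟨y, hy, rfl⟩ := hx
    obtain ⟨k, f, -, -⟩ := S.surj j 0
    exact ⟨k, f, algebraMap A (S.R k) y, Ideal.mem_map_of_mem _ hy, (S.ρ k).commutes y⟩
  | zero =>
    intro j
    obtain ⟨k, f, -, -⟩ := S.surj j 0
    exact ⟨k, f, 0, zero_mem _, map_zero _⟩
  | add x y _ _ hx hy =>
    intro j
    obtain ⟨k, f, a, ha, rfl⟩ := hx j
    obtain ⟨l, g, a', ha', rfl⟩ := hy k
    obtain ⟨h, -⟩ := S.comp f g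
    refine ⟨l, h, S.τ g a + a', add_mem (htau g ha) ha', ?_⟩
    rw [map_add, ← AlgHom.comp_apply, S.comm]
  | smul r x _ hx =>
    intro j
    obtain ⟨k, f, a, ha, rfl⟩ := hx j
    obtain ⟨l, g, r', rfl⟩ := S.surj k r
    obtain ⟨h, -⟩ := S.comp f g
    refine ⟨l, h, r' * S.τ g a, Ideal.mul_mem_left _ _ (htau g ha), ?_⟩
    rw [map_mul, ← AlgHom.comp_apply, S.comm]
    rfl

theorem map_le_mono {I J : Ideal A} {k l : S.J} (f : S.Hom k l)
    (h : I.map (algebraMap A (S.R k)) ≤ J.map (algebraMap A (S.R k))) :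
    I.map (algebraMap A (S.R l)) ≤ J.map (algebraMap A (S.R l)) := by
  rw [← (S.τ f).comp_algebraMap, ← Ideal.map_map, ← Ideal.map_map]
  exact Ideal.map_mono h

theorem exists_map_le {I J : Ideal A} (hI : I.FG)
    (h : I.map (algebraMap A B) ≤ J.map (algebraMap A B)) :
    ∀ j : S.J, ∃ (k : S.J) (_ : S.Hom j k), I.map (algebraMap A (S.R k)) ≤ J.map (algebraMap A (S.R k)) := by
  revert h
  induction I, hI using Submodule.fg_induction with
  | singleton x =>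
    intro h j
    obtain ⟨k, f, a, ha, hax⟩ := exists_mem_map S
      (h (Ideal.mem_map_of_mem _ (Submodule.mem_span_singleton_self x))) j
    obtain ⟨l, g, hl⟩ := S.inj k (a - algebraMap A (S.R k) x)
      (by rw [map_sub, hax, AlgHom.commutes, sub_self])
    obtain ⟨e, -⟩ := S.comp f g
    refine ⟨l, e, Ideal.map_le_iff_le_comap.2 fun y hy => ?_⟩
    obtain ⟨r, rfl⟩ := Submodule.mem_span_singleton.1 hy
    rw [Ideal.mem_comap, smul_eq_mul, map_mul]
    refine Ideal.mul_mem_left _ _ ?_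
    rw [map_sub, AlgHom.commutes, sub_eq_zero] at hl
    rw [← hl]
    have h1 := Ideal.mem_map_of_mem (S.τ g).toRingHom ha
    rw [Ideal.map_map] at h1
    rwa [show (S.τ g).toRingHom.comp (algebraMap A (S.R k)) = algebraMap A (S.R l) from
      (S.τ g).comp_algebraMap] at h1
  | sup N₁ N₂ hN₁ hN₂ h₁ h₂ =>
    intro h j
    rw [Ideal.map_sup, sup_le_iff] at h
    obtain ⟨k, f, hk⟩ := h₁ h.1 j
    obtain ⟨l, g, hl⟩ := h₂ h.2 k
    obtain ⟨e, -⟩ := S.comp f g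
    exact ⟨l, e, by rw [Ideal.map_sup]; exact sup_le (map_le_mono S g hk) hl⟩

theorem exists_map_eq {I J : Ideal A} (hI : I.FG) (hJ : J.FG)
    (h : I.map (algebraMap A B) = J.map (algebraMap A B)) (j : S.J) :
    ∃ (k : S.J) (_ : S.Hom j k), I.map (algebraMap A (S.R k)) = J.map (algebraMap A (S.R k)) := by
  obtain ⟨k, f, hk⟩ := exists_map_le S hI h.le j
  obtain ⟨l, g, hl⟩ := exists_map_le S hJ h.ge k
  obtain ⟨e, -⟩ := S.comp f g
  exact ⟨l, e, le_antisymm (map_le_mono S g hk) hl⟩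

end Algebra

/-- Two finitely generated ideals on a stage which agree on the limit agree on a later stage. -/
theorem exists_map_appLE_eq {I : Type u} [SmallCategory I] [IsCofiltered I] (D : I ⥤ Scheme.{u}) (c : Cone D)
    (hc : IsLimit c) [∀ {i j : I} (f : i ⟶ j), IsAffineHom (D.map f)] {m : I} {W : (D.obj m).Opens}
    (hW : IsAffineOpen W) {U : c.pt.Opens} (hU : U = c.π.app m ⁻¹ᵁ W) (e : U ≤ c.π.app m ⁻¹ᵁ W)
    {J₁ J₂ : Ideal Γ(D.obj m, W)} (h₁ : J₁.FG) (h₂ : J₂.FG)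
    (h : J₁.map ((c.π.app m).appLE W U e).hom = J₂.map ((c.π.app m).appLE W U e).hom) :
    ∃ (l : I) (f : l ⟶ m),
      J₁.map ((D.map f).appLE W (D.map f ⁻¹ᵁ W) le_rfl).hom = J₂.map ((D.map f).appLE W (D.map f ⁻¹ᵁ W) le_rfl).hom := by
  subst hU
  letI : Algebra Γ(D.obj m, W) Γ(c.pt, c.π.app m ⁻¹ᵁ W) := ((c.π.app m).appLE W _ le_rfl).hom.toAlgebra
  obtain ⟨k, -, hk⟩ := exists_map_eq (system D c hc m hW) h₁ h₂ h (Over.mk (𝟙 m))
  exact ⟨k.left, k.hom, hk⟩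

/-- Equal opens of the base give the same transversally regular sequences. -/
theorem tr_congr {X S : Scheme.{u}} (f : X ⟶ S) {V V' : S.Opens} (hV : V = V') {U : X.Opens}
    (e : U ≤ f ⁻¹ᵁ V) (e' : U ≤ f ⁻¹ᵁ V') (rs : List Γ(X, U))
    (h : @RegImm.IsTransRegularSeq Γ(S, V) Γ(X, U) _ _ (f.appLE V U e).hom.toAlgebra rs) :
    @RegImm.IsTransRegularSeq Γ(S, V') Γ(X, U) _ _ (f.appLE V' U e').hom.toAlgebra rs := by
  subst hV
  exact h

/-- Isomorphic immersions. -/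
theorem forall_at_of_iso {X S Y Y' : Scheme.{u}} (f : X ⟶ S) {i : Y ⟶ X} {i' : Y' ⟶ X} (e : Y' ≅ Y)
    (w : e.hom ≫ i = i') (h : ∀ z, RegImm.IsTransRegularImmersionAt f i z) :
    ∀ z, RegImm.IsTransRegularImmersionAt f i' z := fun z =>
  at_baseChange (f := f) (f' := f) (p := 𝟙 X) (q := 𝟙 S) (i := i) (i' := i') (r := e.hom)
    (IsPullback.of_horiz_isIso ⟨by simp⟩) (IsPullback.of_horiz_isIso ⟨by simp [w]⟩) z (h _)

theorem app_apply {X Y Z : Scheme.{u}} {f : X ⟶ Y} {g : Y ⟶ Z} {h : X ⟶ Z} (w : f ≫ g = h) (x : X) :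
    g (f x) = h x := by
  subst w; rfl

theorem isOpen_at {X S Y : Scheme.{u}} (f : X ⟶ S) (i : Y ⟶ X) :
    IsOpen {z | RegImm.IsTransRegularImmersionAt f i z} :=
  isOpen_iff_forall_mem_open.2 fun z hz => by
    obtain ⟨U, V, e, hzU, rest⟩ := hz
    exact ⟨(i ⁻¹ᵁ U.1 : Y.Opens), fun w hw => ⟨U, V, e, hw, rest⟩, (i ⁻¹ᵁ U.1).2, hzU⟩

section Limit

variable {I : Type u} [SmallCategory I] [IsCofiltered I] (D : I ⥤ Scheme.{u}) (c : Cone D)
  (hc : IsLimit c) [∀ {i j : I} (f : i ⟶ j), IsAffineHom (D.map f)] (i₀ : I)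
  {X₀ Y₀ : Scheme.{u}} (g₀ : X₀ ⟶ D.obj i₀) (j₀ : Y₀ ⟶ X₀)

omit [IsCofiltered I] [∀ {i j : I} (f : i ⟶ j), IsAffineHom (D.map f)] in
theorem isPullback_struct_map {l k : Over i₀} (a : l ⟶ k) :
    IsPullback ((AffLim.baseChange D i₀ g₀).map a) (pullback.snd g₀ (D.map l.hom))
      (pullback.snd g₀ (D.map k.hom)) (D.map a.left) :=
  IsPullback.of_right
    (by
      simp only [AffLim.baseChange_map, pullback.map, pullback.lift_fst, Category.comp_id, ← D.map_comp,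
        Over.w]
      exact IsPullback.of_hasPullback g₀ (D.map l.hom))
    (by simp [AffLim.baseChange_map, pullback.map])
    (IsPullback.of_hasPullback g₀ (D.map k.hom))

omit [IsCofiltered I] [∀ {i j : I} (f : i ⟶ j), IsAffineHom (D.map f)] in
theorem isPullback_struct_limit (k : Over i₀) :
    IsPullback ((AffLim.baseChangeCone D c i₀ g₀).π.app k) (pullback.snd g₀ (c.π.app i₀))
      (pullback.snd g₀ (D.map k.hom)) (c.π.app k.left) :=
  IsPullback.of_right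
    (by
      simp only [AffLim.baseChangeCone_π_app, pullback.map, pullback.lift_fst, Category.comp_id, c.w]
      exact IsPullback.of_hasPullback g₀ (c.π.app i₀))
    (by simp [AffLim.baseChangeCone_π_app, pullback.map])
    (IsPullback.of_hasPullback g₀ (D.map k.hom))

/-- The condition at a point of a stage. -/
abbrev AtStage (k : Over i₀) (y : ((AffLim.baseChange D i₀ (j₀ ≫ g₀)).obj k : Scheme.{u})) : Prop :=
  RegImm.IsTransRegularImmersionAt (pullback.snd g₀ (D.map k.hom))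
    ((AffLim.baseChangeMap D i₀ j₀ g₀).app k) y

theorem atStage_mono {l k : Over i₀} (a : l ⟶ k)
    (y : ((AffLim.baseChange D i₀ (j₀ ≫ g₀)).obj l : Scheme.{u}))
    (h : AtStage D i₀ g₀ j₀ k ((AffLim.baseChange D i₀ (j₀ ≫ g₀)).map a y)) : AtStage D i₀ g₀ j₀ l y :=
  at_baseChange (isPullback_struct_map D i₀ g₀ a) (AffLim.isPullback_baseChangeMap_map D i₀ j₀ g₀ a) y h

include hc in
theorem exists_atStage [LocallyOfFinitePresentation g₀] [IsImmersion j₀] [LocallyOfFinitePresentation j₀]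
    (z : ((AffLim.baseChangeCone D c i₀ (j₀ ≫ g₀)).pt : Scheme.{u}))
    (h : RegImm.IsTransRegularImmersionAt (pullback.snd g₀ (c.π.app i₀))
      (AffLim.baseChangeMapLimit D c i₀ j₀ g₀) z) :
    ∃ k : Over i₀, AtStage D i₀ g₀ j₀ k ((AffLim.baseChangeCone D c i₀ (j₀ ≫ g₀)).π.app k z) := by
  let E := AffLim.baseChange D i₀ g₀
  let cE := AffLim.baseChangeCone D c i₀ g₀
  obtain ⟨hcE⟩ := AffLim.nonempty_isLimit_baseChangeCone D c hc i₀ g₀
  haveI hEaff : ∀ {a b : Over i₀} (f : a ⟶ b), IsAffineHom (E.map f) := fun f => inferInstanceAs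
    (IsAffineHom ((AffLim.baseChange D i₀ g₀).map f))
  set ιR := AffLim.baseChangeMapLimit D c i₀ j₀ g₀ with hιR
  set sR := pullback.snd g₀ (c.π.app i₀) with hsR
  let w : cE.pt := ιR z
  let x₀ := pullback.fst g₀ (c.π.app i₀) w
  have hx₀ : x₀ ∈ Set.range j₀ := by
    refine ⟨pullback.fst (j₀ ≫ g₀) (c.π.app i₀) z, ?_⟩
    exact (app_apply (AffLim.isPullback_map_fst D i₀ j₀ g₀ (c.π.app i₀)).w z).trans (app_apply rfl z).symm
  have hfst : ∀ k : Over i₀, cE.π.app k ≫ pullback.fst g₀ (D.map k.hom) = pullback.fst g₀ (c.π.app i₀) :=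
    fun k => by simp [cE, pullback.map]
  have hmap : ∀ {l k : Over i₀} (a : l ⟶ k),
      E.map a ≫ pullback.fst g₀ (D.map k.hom) = pullback.fst g₀ (D.map l.hom) :=
    fun a => by simp [E, pullback.map]
  have hcond : ∀ {T : Scheme.{u}} (q : T ⟶ D.obj i₀) (x : ↥(pullback g₀ q)),
      q (pullback.snd g₀ q x) = g₀ (pullback.fst g₀ q x) := fun q x =>
    (app_apply pullback.condition.symm x).trans (app_apply rfl x).symm
  obtain ⟨_, ⟨V₀, hV₀, rfl⟩, hy₀, -⟩ :=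
    (D.obj i₀).isBasis_affineOpens.exists_subset_of_mem_open (Set.mem_univ (g₀ x₀)) isOpen_univ
  obtain ⟨W₀, hW₀, hxW₀, hW₀le⟩ := exists_isAffineOpen_mem_and_subset (x := x₀)
    (U := j₀.coborderRange ⊓ g₀ ⁻¹ᵁ V₀) ⟨subset_coborder hx₀, hy₀⟩
  have hcl₀ := RegKindDescLib.isClosedImmersion_restrict j₀ W₀ (hW₀le.trans inf_le_left)
  have hker₀ : (RingHom.ker (j₀.app W₀).hom).FG := by
    obtain ⟨haff, hs⟩ := RegIdealLib.affine_and_surjective j₀ hW₀ hcl₀
    rw [Scheme.Hom.app_eq_appLE] at hs ⊢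
    letI : Algebra Γ(X₀, W₀) Γ(Y₀, j₀ ⁻¹ᵁ W₀) := (j₀.appLE W₀ _ le_rfl).hom.toAlgebra
    haveI : Algebra.FinitePresentation Γ(X₀, W₀) Γ(Y₀, j₀ ⁻¹ᵁ W₀) :=
      j₀.finitePresentation_appLE hW₀ haff le_rfl
    exact Algebra.FinitePresentation.ker_fG_of_surjective (Algebra.ofId Γ(X₀, W₀) Γ(Y₀, j₀ ⁻¹ᵁ W₀)) hs
  haveI := isAffineHom_π_app D c hc i₀
  have hV₁ : IsAffineOpen (c.π.app i₀ ⁻¹ᵁ V₀) := hV₀.preimage _
  have hwV₁ : sR w ∈ c.π.app i₀ ⁻¹ᵁ V₀ := by
    show c.π.app i₀ (sR w) ∈ V₀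
    exact Set.mem_of_eq_of_mem (hcond (c.π.app i₀) w) hy₀
  obtain ⟨Q, hwQ, hQ⟩ := exists_chart h hV₁ hwV₁
  obtain ⟨m, V, -, hwV, hVQ⟩ := AffLim.exists_affine_preimage_subset E cE hcE Q.2 hwQ
  have hfstm : pullback.fst g₀ (D.map m.hom) (cE.π.app m w) = x₀ := app_apply (hfst m) w
  obtain ⟨W, hW, hwW, hWle⟩ := exists_isAffineOpen_mem_and_subset (x := cE.π.app m w)
    (U := V ⊓ pullback.fst g₀ (D.map m.hom) ⁻¹ᵁ W₀) ⟨hwV, by
      show pullback.fst g₀ (D.map m.hom) (cE.π.app m w) ∈ W₀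
      rw [hfstm]; exact hxW₀⟩
  let U : cE.pt.Opens := cE.π.app m ⁻¹ᵁ W
  haveI := isAffineHom_π_app E cE hcE m
  have hU : IsAffineOpen U := hW.preimage _
  have hUQ : U ≤ Q := fun x hx => hVQ (hWle hx).1
  have eU : U ≤ sR ⁻¹ᵁ (c.π.app i₀ ⁻¹ᵁ V₀) := fun x hx => by
    show c.π.app i₀ (sR x) ∈ V₀
    refine Set.mem_of_eq_of_mem (hcond (c.π.app i₀) x) (hW₀le ?_).2
    exact Set.mem_of_eq_of_mem (app_apply (hfst m) x).symm (hWle hx).2
  obtain ⟨rs, htr, hker⟩ := hQ U hU hUQ _ rfl eU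
  obtain ⟨m', ψ, e', ts, hts⟩ := RegImmLimLib.exists_lift_list E cE hcE (List.replicate rs.length ()) m W hW U rfl
    rs (by simp)
  let W' : (E.obj m').Opens := E.map ψ ⁻¹ᵁ W
  have hW' : IsAffineOpen W' := hW.preimage _
  have hUW' : U = cE.π.app m' ⁻¹ᵁ W' := by
    show cE.π.app m ⁻¹ᵁ W = _
    rw [← Scheme.Hom.comp_preimage, cE.w]
  have hW'₀ : W' ≤ pullback.fst g₀ (D.map m'.hom) ⁻¹ᵁ W₀ := fun x hx => by
    show pullback.fst g₀ (D.map m'.hom) x ∈ W₀
    exact Set.mem_of_eq_of_mem (app_apply (hmap ψ) x).symm (hWle hx).2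
  obtain ⟨hcl', hker'⟩ := RelDivLib.closed_and_ker_pullback (AffLim.isPullback_baseChangeMap D i₀ j₀ g₀ m')
    hW₀ hcl₀ hW' hW'₀
  obtain ⟨-, hkerU⟩ := RelDivLib.closed_and_ker_pullback (AffLim.isPullback_baseChangeMapLimit D c i₀ j₀ g₀ m')
    hW' hcl' hU e'
  obtain ⟨k, f, hk⟩ := exists_map_appLE_eq E cE hcE hW' hUW' e'
    (J₁ := RingHom.ker ((AffLim.baseChangeMap D i₀ j₀ g₀).app m' |>.app W').hom) (J₂ := Ideal.ofList ts)
    (hker' ▸ Ideal.FG.map hker₀ _) (Submodule.fg_span (List.finite_toSet ts))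
    (hkerU.symm.trans (hker.trans (by rw [Ideal.map_ofList, hts]; rfl)))
  let W'' : (E.obj k).Opens := E.map f ⁻¹ᵁ W'
  have hW'' : IsAffineOpen W'' := hW'.preimage _
  let ws := ts.map ((E.map f).appLE W' W'' le_rfl).hom
  obtain ⟨hclk, hkerk⟩ := RelDivLib.closed_and_ker_pullback (AffLim.isPullback_baseChangeMap_map D i₀ j₀ g₀ f)
    hW' hcl' hW'' le_rfl
  have hkerk' : RingHom.ker (((AffLim.baseChangeMap D i₀ j₀ g₀).app k).app W'').hom = Ideal.ofList ws := by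
    rw [hkerk, ← Ideal.map_ofList]; exact hk
  let Vk : (D.obj k.left).Opens := D.map k.hom ⁻¹ᵁ V₀
  have hVk : IsAffineOpen Vk := hV₀.preimage _
  set sk := pullback.snd g₀ (D.map k.hom) with hsk
  have eW'' : W'' ≤ sk ⁻¹ᵁ Vk := fun x hx => by
    show D.map k.hom (sk x) ∈ V₀
    refine Set.mem_of_eq_of_mem (hcond (D.map k.hom) x) (hW₀le ?_).2
    exact Set.mem_of_eq_of_mem (app_apply (hmap f) x).symm (hW'₀ hx)
  haveI := isAffineHom_π_app D c hc k.left
  have hVk' : IsAffineOpen (c.π.app k.left ⁻¹ᵁ Vk) := hVk.preimage _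
  have hVeq : c.π.app i₀ ⁻¹ᵁ V₀ = c.π.app k.left ⁻¹ᵁ Vk := by
    rw [← Scheme.Hom.comp_preimage, c.w]
  have hUk : U = cE.π.app k ⁻¹ᵁ W'' ⊓ sR ⁻¹ᵁ (c.π.app k.left ⁻¹ᵁ Vk) := by
    have h1 : cE.π.app k ⁻¹ᵁ W'' = U := by
      show cE.π.app k ⁻¹ᵁ (E.map f ⁻¹ᵁ W') = U
      rw [← Scheme.Hom.comp_preimage, cE.w]
      exact hUW'.symm
    rw [← hVeq, h1]
    exact (inf_eq_left.2 eU).symm
  have eUV : U ≤ sR ⁻¹ᵁ (c.π.app k.left ⁻¹ᵁ Vk) := hUk.le.trans inf_le_right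
  have eUW : U ≤ cE.π.app k ⁻¹ᵁ W'' := hUk.le.trans inf_le_left
  have hws : ws.map ((cE.π.app k).appLE W'' U eUW).hom = rs := by
    rw [← hts, List.map_map]
    refine List.map_congr_left fun a _ => ?_
    exact RegImmLimLib.appLE_trans _ _ _ (cE.w f) le_rfl eUW e' a
  letI : Algebra Γ(D.obj k.left, Vk) Γ(E.obj k, W'') := (sk.appLE Vk W'' eW'').hom.toAlgebra
  haveI : Algebra.FinitePresentation Γ(D.obj k.left, Vk) Γ(E.obj k, W'') := by
    haveI : LocallyOfFinitePresentation sk :=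
      MorphismProperty.pullback_snd (P := @LocallyOfFinitePresentation) _ _ inferInstance
    exact sk.finitePresentation_appLE hVk hW'' eW''
  letI : Algebra Γ(D.obj k.left, Vk) Γ(c.pt, c.π.app k.left ⁻¹ᵁ Vk) :=
    ((c.π.app k.left).appLE Vk _ le_rfl).hom.toAlgebra
  have hA : Crit Γ(D.obj k.left, Vk) ws Γ(c.pt, c.π.app k.left ⁻¹ᵁ Vk) :=
    (piece_iff' (isPullback_struct_limit D c i₀ g₀ k) hVk hW'' eW'' hVk' le_rfl ws hUk eUV eUW).1
      (hws.symm ▸ tr_congr sR hVeq eU eUV rs htr)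
  have hdir : ∀ i j : Over k.left, ∃ l, Nonempty (l ⟶ i) ∧ Nonempty (l ⟶ j) := fun i j =>
    ⟨IsCofiltered.min i j, ⟨IsCofiltered.minToLeft i j⟩, ⟨IsCofiltered.minToRight i j⟩⟩
  obtain ⟨k', -, hk'⟩ := exists_stage ws (system D c hc k.left hVk) (Over.mk (𝟙 k.left))
    hdir hA
  let n : Over i₀ := Over.mk (k'.hom ≫ k.hom)
  let a : n ⟶ k := Over.homMk k'.hom rfl
  let Vn : (D.obj n.left).Opens := D.map a.left ⁻¹ᵁ Vk
  have hVn : IsAffineOpen Vn := hVk.preimage _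
  have hPn := isPullback_struct_map D i₀ g₀ a
  obtain ⟨hUn, -⟩ := PullbackMod.isPushout_appLE hPn hVk hW'' hVn eW'' le_rfl
  obtain ⟨hcln, hkern⟩ := RelDivLib.closed_and_ker_pullback (AffLim.isPullback_baseChangeMap_map D i₀ j₀ g₀ a)
    hW'' hclk hUn inf_le_left
  refine ⟨n, ⟨_, hUn⟩, ⟨_, hVn⟩, inf_le_right, ?_, hcln, ws.map ((E.map a).appLE W'' _ inf_le_left).hom, ?_, ?_⟩
  · have h1 : (AffLim.baseChangeMap D i₀ j₀ g₀).app n ((AffLim.baseChangeCone D c i₀ (j₀ ≫ g₀)).π.app n z) =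
        cE.π.app n w :=
      (app_apply (AffLim.baseChangeMapLimit_w D c i₀ j₀ g₀ n).symm z).trans (app_apply rfl z).symm
    have h2 : E.map a (cE.π.app n w) ∈ W'' := Set.mem_of_eq_of_mem (app_apply (cE.w a) w) (eUW hwW)
    refine Set.mem_of_eq_of_mem h1 ⟨h2, ?_⟩
    show D.map a.left (pullback.snd g₀ (D.map n.hom) (cE.π.app n w)) ∈ Vk
    exact Set.mem_of_eq_of_mem ((app_apply hPn.w.symm _).trans (app_apply rfl _).symm) (eW'' h2)
  · exact (piece_iff' hPn hVk hW'' eW'' hVn le_rfl ws rfl inf_le_right inf_le_left).2 hk'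
  · rw [hkern, hkerk', Ideal.map_ofList]
    rfl

include hc in
theorem forall_atStage_of_limit [LocallyOfFinitePresentation g₀] [IsImmersion j₀]
    [LocallyOfFinitePresentation j₀] [CompactSpace Y₀]
    (h : ∀ z, RegImm.IsTransRegularImmersionAt (pullback.snd g₀ (c.π.app i₀))
      (AffLim.baseChangeMapLimit D c i₀ j₀ g₀) z) :
    ∃ k : Over i₀, ∀ y, AtStage D i₀ g₀ j₀ k y := by
  let o : Over i₀ := Over.mk (𝟙 i₀)
  obtain ⟨hcY⟩ := AffLim.nonempty_isLimit_baseChangeCone D c hc i₀ (j₀ ≫ g₀)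
  obtain ⟨j, hj⟩ := PullbackMod.exists_all_of_open (AffLim.baseChange D i₀ (j₀ ≫ g₀))
    (AffLim.baseChangeCone D c i₀ (j₀ ≫ g₀)) hcY o (fun j y => AtStage D i₀ g₀ j₀ j.left y)
    (fun j => isOpen_at _ _) (fun f y h => atStage_mono D i₀ g₀ j₀ f.left y h) fun z => by
      obtain ⟨k, hk⟩ := exists_atStage D c hc i₀ g₀ j₀ z (h z)
      exact ⟨Over.mk (Over.homMk k.hom (by simp [o]) : k ⟶ o), hk⟩
  exact ⟨j.left, hj⟩

include hc in
theorem limit_of_forall_atStage (k : Over i₀) (h : ∀ y, AtStage D i₀ g₀ j₀ k y) :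
    ∀ z, RegImm.IsTransRegularImmersionAt (pullback.snd g₀ (c.π.app i₀))
      (AffLim.baseChangeMapLimit D c i₀ j₀ g₀) z := by
  haveI := isAffineHom_π_app D c hc k.left
  exact fun z => at_baseChange (isPullback_struct_limit D c i₀ g₀ k)
    (AffLim.isPullback_baseChangeMapLimit D c i₀ j₀ g₀ k) z (h _)

/-- The two descriptions of the base change of `j₀`. -/
theorem forall_at_iff {T : Scheme.{u}} (q : T ⟶ D.obj i₀) :
    (∀ z, RegImm.IsTransRegularImmersionAt (pullback.snd g₀ q) (pullback.snd j₀ (pullback.fst g₀ q)) z) ↔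
      ∀ z, RegImm.IsTransRegularImmersionAt (pullback.snd g₀ q)
        (pullback.map (j₀ ≫ g₀) q g₀ q j₀ (𝟙 _) (𝟙 _) (by simp) (by simp)) z := by
  let e := (AffLim.isPullback_map_fst D i₀ j₀ g₀ q).isoPullback
  have he : e.hom ≫ pullback.snd j₀ (pullback.fst g₀ q) = pullback.map (j₀ ≫ g₀) q g₀ q j₀ (𝟙 _) (𝟙 _) (by simp) (by simp) :=
    (AffLim.isPullback_map_fst D i₀ j₀ g₀ q).isoPullback_hom_snd
  exact ⟨forall_at_of_iso _ e he, forall_at_of_iso _ e.symm (by rw [← he]; simp)⟩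

end Limit

end Groth.Agent.TransRegLib

end
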