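import Groth.Agent.TransRegLib.Alg
import Groth.Agent.PullbackMod.Flat
import Groth.Agent.AffLim.Stalks
import Groth.Agent.AffLim.Constructible

/-!
# Transversally regular sequences of global functions in limits of schemes
-/

set_option autoImplicit false
set_option backward.isDefEq.respectTransparency false
set_option backward.defeqAttrib.useBackward true
set_option linter.style.haveILetI false
set_option linter.unusedSectionVars false

universe u

open CategoryTheory CategoryTheory.Limits AlgebraicGeometry RingTheory.Sequence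
open Groth.Agent

noncomputable section

namespace Groth.Agent.TransRegLib

/-- Flatness of a localised quotient. -/
theorem flat_quot_iff {A B Bp : Type u} [CommRing A] [CommRing B] [CommRing Bp] [Algebra A B] [Algebra B Bp]
    [Algebra A Bp] [IsScalarTower A B Bp] (p : Submonoid B) [IsLocalization p Bp] (J : Ideal B) :
    Module.Flat A (Bp ⧸ J.map (algebraMap B Bp)) ↔ Module.Flat A (LocalizedModule p (B ⧸ J)) := by
  let f := Submodule.toLocalizedQuotient' Bp p (Algebra.linearMap B Bp) J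
  let e : LocalizedModule p (B ⧸ J) ≃ₗ[B] (Bp ⧸ Submodule.localized' Bp p (Algebra.linearMap B Bp) J) :=
    IsLocalizedModule.iso p f
  let e' : (Bp ⧸ Submodule.localized' Bp p (Algebra.linearMap B Bp) J) ≃ₗ[Bp] Bp ⧸ J.map (algebraMap B Bp) :=
    Submodule.quotEquivOfEq _ _ (Ideal.localized'_eq_map Bp p J)
  exact (Module.Flat.equiv_iff ((e.restrictScalars A).trans (e'.restrictScalars A))).symm

variable {X S : Scheme.{u}} (g : X ⟶ S)

/-- Transversal regularity of global functions at a point. -/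
def AtPt (fs : List Γ(X, ⊤)) (x : X) : Prop :=
  RegLimLib.Reg fs x ∧
    (letI := (g.stalkMap x).hom.toAlgebra
     ∀ j ≤ fs.length, Module.Flat (S.presheaf.stalk (g x))
      (X.presheaf.stalk x ⧸ Ideal.ofList ((fs.map (X.presheaf.germ ⊤ x trivial).hom).take j)))

variable {g} {fs : List Γ(X, ⊤)} {U : X.Opens} (hU : IsAffineOpen U) {V : S.Opens} (hV : IsAffineOpen V)
  (e : U ≤ g ⁻¹ᵁ V)

include hU hV in
theorem atPt_of_affine (h : @RegImm.IsTransRegularSeq Γ(S, V) Γ(X, U) _ _ (g.appLE V U e).hom.toAlgebra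
      (RegLimLib.res fs U)) (x : X) (hx : x ∈ U) : AtPt g fs x := by
  refine ⟨RegLimLib.reg_of_affine (U := ⟨U, hU⟩) h.1 hx, ?_⟩
  letI := (g.stalkMap x).hom.toAlgebra
  letI : Algebra Γ(S, V) Γ(X, U) := (g.appLE V U e).hom.toAlgebra
  letI : Algebra Γ(X, U) (X.presheaf.stalk x) := (X.presheaf.germ U x hx).hom.toAlgebra
  letI : Algebra Γ(S, V) (S.presheaf.stalk (g x)) := (S.presheaf.germ V (g x) (e hx)).hom.toAlgebra
  letI : Algebra Γ(S, V) (X.presheaf.stalk x) :=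
    ((X.presheaf.germ U x hx).hom.comp (g.appLE V U e).hom).toAlgebra
  haveI : IsScalarTower Γ(S, V) Γ(X, U) (X.presheaf.stalk x) := .of_algebraMap_eq fun _ => rfl
  haveI : IsScalarTower Γ(S, V) (S.presheaf.stalk (g x)) (X.presheaf.stalk x) :=
    .of_algebraMap_eq fun r => (PullbackMod.germ_stalkMap_appLE g x (e hx) hx e r).symm
  haveI : IsLocalization.AtPrime (X.presheaf.stalk x) (hU.primeIdealOf ⟨x, hx⟩).asIdeal :=
    hU.isLocalization_stalk ⟨x, hx⟩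
  haveI : IsLocalization.AtPrime (S.presheaf.stalk (g x)) (hV.primeIdealOf ⟨g x, e hx⟩).asIdeal :=
    hV.isLocalization_stalk ⟨g x, e hx⟩
  intro j hj
  haveI := h.2 j (by simpa [RegLimLib.res] using hj)
  have h1 : Module.Flat Γ(S, V) (X.presheaf.stalk x ⧸
      (Ideal.ofList ((RegLimLib.res fs U).take j)).map (algebraMap Γ(X, U) (X.presheaf.stalk x))) :=
    (flat_quot_iff (hU.primeIdealOf ⟨x, hx⟩).asIdeal.primeCompl _).2 (FlatStage.flat_localizedModule' _)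
  rw [Ideal.map_ofList, List.map_take, show (RegLimLib.res fs U).map (algebraMap Γ(X, U) (X.presheaf.stalk x)) = _
    from RegLimLib.map_res_germ fs hx] at h1
  exact (Module.flat_iff_of_isLocalization (S.presheaf.stalk (g x))
    (hV.primeIdealOf ⟨g x, e hx⟩).asIdeal.primeCompl _).2 h1

include hU hV in
theorem affine_of_atPt (h : ∀ x ∈ U, AtPt g fs x) :
    @RegImm.IsTransRegularSeq Γ(S, V) Γ(X, U) _ _ (g.appLE V U e).hom.toAlgebra (RegLimLib.res fs U) := by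
  refine ⟨RegLimLib.affine_of_reg (U := ⟨U, hU⟩) fun x hx => (h x hx).1, fun j hj => ?_⟩
  letI : Algebra Γ(S, V) Γ(X, U) := (g.appLE V U e).hom.toAlgebra
  refine Module.flat_of_isLocalized_maximal Γ(X, U) _
    (fun P _ => LocalizedModule P.primeCompl (Γ(X, U) ⧸ Ideal.ofList ((RegLimLib.res fs U).take j)))
    (fun P _ => LocalizedModule.mkLinearMap _ _) fun P hP => ?_
  let x : X := hU.fromSpec ⟨P, hP.isPrime⟩
  have hx : x ∈ U := hU.opensRange_fromSpec.le ⟨⟨P, hP.isPrime⟩, rfl⟩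
  have hp : hU.primeIdealOf ⟨x, hx⟩ = ⟨P, hP.isPrime⟩ :=
    hU.fromSpec.isOpenEmbedding.injective (hU.fromSpec_primeIdealOf _)
  letI := (g.stalkMap x).hom.toAlgebra
  letI : Algebra Γ(X, U) (X.presheaf.stalk x) := (X.presheaf.germ U x hx).hom.toAlgebra
  letI : Algebra Γ(S, V) (S.presheaf.stalk (g x)) := (S.presheaf.germ V (g x) (e hx)).hom.toAlgebra
  letI : Algebra Γ(S, V) (X.presheaf.stalk x) :=
    ((X.presheaf.germ U x hx).hom.comp (g.appLE V U e).hom).toAlgebra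
  haveI : IsScalarTower Γ(S, V) Γ(X, U) (X.presheaf.stalk x) := .of_algebraMap_eq fun _ => rfl
  haveI : IsScalarTower Γ(S, V) (S.presheaf.stalk (g x)) (X.presheaf.stalk x) :=
    .of_algebraMap_eq fun r => (PullbackMod.germ_stalkMap_appLE g x (e hx) hx e r).symm
  haveI : IsLocalization.AtPrime (X.presheaf.stalk x) P := by
    have := hU.isLocalization_stalk ⟨x, hx⟩
    rwa [hp] at this
  haveI : IsLocalization.AtPrime (S.presheaf.stalk (g x)) (hV.primeIdealOf ⟨g x, e hx⟩).asIdeal :=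
    hV.isLocalization_stalk ⟨g x, e hx⟩
  rw [← flat_quot_iff (Bp := X.presheaf.stalk x) P.primeCompl, Ideal.map_ofList, List.map_take,
    show (RegLimLib.res fs U).map (algebraMap Γ(X, U) (X.presheaf.stalk x)) = _
      from RegLimLib.map_res_germ fs hx]
  haveI := (h x hx).2 j (by simpa [RegLimLib.res] using hj)
  exact (Module.flat_iff_of_isLocalization (S.presheaf.stalk (g x))
    (hV.primeIdealOf ⟨g x, e hx⟩).asIdeal.primeCompl _).1 this

variable (g) (fs) in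
theorem all_affine_iff :
    (∀ (U : X.affineOpens) (V : S.affineOpens) (e : U.1 ≤ g ⁻¹ᵁ V.1),
      @RegImm.IsTransRegularSeq Γ(S, V.1) Γ(X, U.1) _ _ (g.appLE V.1 U.1 e).hom.toAlgebra
        (RegLimLib.res fs U.1)) ↔ ∀ x, AtPt g fs x := by
  refine ⟨fun h x => ?_, fun h U V e => affine_of_atPt U.2 V.2 e fun x _ => h x⟩
  obtain ⟨_, ⟨V, hV, rfl⟩, hyV, -⟩ :=
    S.isBasis_affineOpens.exists_subset_of_mem_open (Set.mem_univ (g x)) isOpen_univ
  obtain ⟨_, ⟨W, hW, rfl⟩, hxW, hWV⟩ :=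
    X.isBasis_affineOpens.exists_subset_of_mem_open (a := x) (u := ↑(g ⁻¹ᵁ V)) hyV (g ⁻¹ᵁ V).2
  exact atPt_of_affine hW hV hWV (h ⟨W, hW⟩ ⟨V, hV⟩ hWV) x hxW

/-- An affine piece of a base change, in terms of the criterion. -/
theorem piece_iff {X₀ S₀ S' P : Scheme.{u}} {g₀ : X₀ ⟶ S₀} {q : S' ⟶ S₀} {pX : P ⟶ X₀} {pS : P ⟶ S'}
    (hP : IsPullback pX pS g₀ q) (fs : List Γ(X₀, ⊤)) {V : S₀.Opens} (hV : IsAffineOpen V) {W : X₀.Opens}
    (hW : IsAffineOpen W) (eW : W ≤ g₀ ⁻¹ᵁ V) {V' : S'.Opens} (hV' : IsAffineOpen V') (eV : V' ≤ q ⁻¹ᵁ V) :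
    (@RegImm.IsTransRegularSeq Γ(S', V') Γ(P, pX ⁻¹ᵁ W ⊓ pS ⁻¹ᵁ V') _ _
        (pS.appLE V' _ inf_le_right).hom.toAlgebra
        (RegLimLib.res (fs.map pX.appTop.hom) (pX ⁻¹ᵁ W ⊓ pS ⁻¹ᵁ V'))) ↔
      @Crit Γ(S₀, V) Γ(X₀, W) _ _ (g₀.appLE V W eW).hom.toAlgebra (RegLimLib.res fs W) Γ(S', V') _
        (q.appLE V V' eV).hom.toAlgebra := by
  obtain ⟨hWk, hpo⟩ := PullbackMod.isPushout_appLE hP hV hW hV' eW eV
  let Wk := pX ⁻¹ᵁ W ⊓ pS ⁻¹ᵁ V'
  letI : Algebra Γ(S₀, V) Γ(X₀, W) := (g₀.appLE V W eW).hom.toAlgebra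
  letI : Algebra Γ(S₀, V) Γ(S', V') := (q.appLE V V' eV).hom.toAlgebra
  letI : Algebra Γ(X₀, W) Γ(P, Wk) := (pX.appLE W Wk inf_le_left).hom.toAlgebra
  letI : Algebra Γ(S', V') Γ(P, Wk) := (pS.appLE V' Wk inf_le_right).hom.toAlgebra
  letI : Algebra Γ(S₀, V) Γ(P, Wk) :=
    ((pX.appLE W Wk inf_le_left).hom.comp (g₀.appLE V W eW).hom).toAlgebra
  haveI : IsScalarTower Γ(S₀, V) Γ(X₀, W) Γ(P, Wk) := .of_algebraMap_eq fun _ => rfl
  haveI : IsScalarTower Γ(S₀, V) Γ(S', V') Γ(P, Wk) := .of_algebraMap_eq' (by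
      show ((g₀.appLE V W eW) ≫ pX.appLE W _ inf_le_left).hom =
        ((q.appLE V V' eV) ≫ pS.appLE V' _ inf_le_right).hom
      simp only [Scheme.Hom.appLE_comp_appLE, hP.w])
  haveI : Algebra.IsPushout Γ(S₀, V) Γ(S', V') Γ(X₀, W) Γ(P, Wk) := hpo
  let ψ := Algebra.IsPushout.equiv Γ(S₀, V) Γ(S', V') Γ(X₀, W) Γ(P, Wk)
  rw [← crit_iff]
  have hl : RegLimLib.res (fs.map pX.appTop.hom) Wk =
      ((RegLimLib.res fs W).map fun b => (1 : Γ(S', V')) ⊗ₜ[Γ(S₀, V)] b).map ψ := by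
    simp only [RegLimLib.res, List.map_map]
    refine List.map_congr_left fun f _ => ?_
    simp only [Function.comp_apply, ψ, Algebra.IsPushout.equiv_tmul, one_smul]
    rw [map_one, one_mul]
    show (pX.appTop ≫ P.presheaf.map (homOfLE le_top).op) f =
      (X₀.presheaf.map (homOfLE le_top).op ≫ pX.appLE W Wk inf_le_left) f
    rw [Scheme.Hom.map_appLE, Scheme.Hom.appLE]
  rw [hl]
  constructor
  · intro h
    have := isTransRegularSeq_of_equiv ψ.symm _ h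
    simpa [Function.comp_def] using this
  · exact isTransRegularSeq_of_equiv ψ _

section Limit

variable {I : Type u} [SmallCategory I] [IsCofiltered I] (D : I ⥤ Scheme.{u}) (c : Cone D)
  (hc : IsLimit c) [∀ {i j : I} (f : i ⟶ j), IsAffineHom (D.map f)] (i₀ : I)
  {V : (D.obj i₀).Opens} (hV : IsAffineOpen V)

lemma le_stage (k : Over i₀) : c.π.app i₀ ⁻¹ᵁ V ≤ c.π.app k.left ⁻¹ᵁ (D.map k.hom ⁻¹ᵁ V) := by
  rw [← Scheme.Hom.comp_preimage, c.w]

lemma le_map {k l : Over i₀} (a : l ⟶ k) :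
    D.map l.hom ⁻¹ᵁ V ≤ D.map a.left ⁻¹ᵁ (D.map k.hom ⁻¹ᵁ V) := by
  rw [← Scheme.Hom.comp_preimage, ← D.map_comp, Over.w]

/-- The rings of functions on the preimages of an affine open of a stage. -/
def system : letI : Algebra Γ(D.obj i₀, V) Γ(c.pt, c.π.app i₀ ⁻¹ᵁ V) :=
      ((c.π.app i₀).appLE V _ le_rfl).hom.toAlgebra
    PullbackMod.AlgSystem Γ(D.obj i₀, V) Γ(c.pt, c.π.app i₀ ⁻¹ᵁ V) :=
  letI : Algebra Γ(D.obj i₀, V) Γ(c.pt, c.π.app i₀ ⁻¹ᵁ V) :=
    ((c.π.app i₀).appLE V _ le_rfl).hom.toAlgebra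
  letI algk : ∀ k : Over i₀, Algebra Γ(D.obj i₀, V) Γ(D.obj k.left, D.map k.hom ⁻¹ᵁ V) := fun k =>
    ((D.map k.hom).appLE V _ le_rfl).hom.toAlgebra
  { J := Over i₀
    R := fun k => Γ(D.obj k.left, D.map k.hom ⁻¹ᵁ V)
    alg := algk
    ρ := fun k =>
      { toRingHom := ((c.π.app k.left).appLE _ _ (le_stage D c i₀ k)).hom
        commutes' := fun a => by
          have key : (D.map k.hom).appLE V _ le_rfl ≫ (c.π.app k.left).appLE _ _ (le_stage D c i₀ k) =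
              (c.π.app i₀).appLE V (c.π.app i₀ ⁻¹ᵁ V) le_rfl := by
            rw [Scheme.Hom.appLE_comp_appLE]
            exact AffLim.appLE_congr_hom (c.w k.hom) _ _ _
          exact congr($key a) }
    Hom := fun k l => l ⟶ k
    τ := fun {k l} a =>
      { toRingHom := ((D.map a.left).appLE _ _ (le_map D i₀ a)).hom
        commutes' := fun r => by
          have key : (D.map k.hom).appLE V _ le_rfl ≫ (D.map a.left).appLE _ _ (le_map D i₀ a) =
              (D.map l.hom).appLE V _ le_rfl := by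
            rw [Scheme.Hom.appLE_comp_appLE]
            exact AffLim.appLE_congr_hom (by rw [← D.map_comp, Over.w]) _ _ _
          exact congr($key r) }
    comm := fun {k l} a => AlgHom.ext fun s => by
      have key : (D.map a.left).appLE _ _ (le_map D i₀ a) ≫ (c.π.app l.left).appLE _ _ (le_stage D c i₀ l) =
          (c.π.app k.left).appLE (D.map k.hom ⁻¹ᵁ V) (c.π.app i₀ ⁻¹ᵁ V) (le_stage D c i₀ k) := by
        rw [Scheme.Hom.appLE_comp_appLE]
        exact AffLim.appLE_congr_hom (c.w a.left) _ _ _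
      exact congr($key s)
    comp := fun {k l m} a b => ⟨b ≫ a, AlgHom.ext fun s => by
      have key : (D.map (b ≫ a).left).appLE (D.map k.hom ⁻¹ᵁ V) (D.map m.hom ⁻¹ᵁ V) (le_map D i₀ (b ≫ a)) =
          (D.map a.left).appLE _ _ (le_map D i₀ a) ≫ (D.map b.left).appLE _ _ (le_map D i₀ b) := by
        rw [Scheme.Hom.appLE_comp_appLE]
        exact AffLim.appLE_congr_hom (D.map_comp b.left a.left) _ _ _
      exact congr($key s)⟩
    surj := fun k b => by
      have hk : c.π.app k.left ⁻¹ᵁ (D.map k.hom ⁻¹ᵁ V) = c.π.app i₀ ⁻¹ᵁ V := by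
        rw [← Scheme.Hom.comp_preimage, c.w]
      obtain ⟨j, φ, e, t, ht⟩ := AffLim.exists_appLE_eq D c hc (hV.preimage (D.map k.hom))
        (c.pt.presheaf.map (homOfLE hk.le).op b)
      let l : Over i₀ := Over.mk (φ ≫ k.hom)
      have hl : D.map l.hom ⁻¹ᵁ V ≤ D.map φ ⁻¹ᵁ (D.map k.hom ⁻¹ᵁ V) :=
        le_map D i₀ (Over.homMk φ rfl : l ⟶ k)
      refine ⟨l, Over.homMk φ rfl, (D.obj j).presheaf.map (homOfLE hl).op t, ?_⟩
      have key : (D.obj j).presheaf.map (homOfLE hl).op ≫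
          (c.π.app j).appLE (D.map l.hom ⁻¹ᵁ V) (c.π.app i₀ ⁻¹ᵁ V) (le_stage D c i₀ l) =
          (c.π.app j).appLE (D.map φ ⁻¹ᵁ (D.map k.hom ⁻¹ᵁ V)) (c.π.app k.left ⁻¹ᵁ (D.map k.hom ⁻¹ᵁ V)) e ≫
            c.pt.presheaf.map (homOfLE hk.ge).op := by
        rw [Scheme.Hom.map_appLE]
        erw [Scheme.Hom.appLE_map]
      refine (congr($key t)).trans ?_
      refine (congrArg (c.pt.presheaf.map (homOfLE hk.ge).op) ht).trans ?_
      rw [← CommRingCat.comp_apply, ← Functor.map_comp]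
      exact (congrArg (fun φ => c.pt.presheaf.map φ b) (Subsingleton.elim _ (𝟙 _))).trans
        (congr($(c.pt.presheaf.map_id _) b))
    inj := fun k s hs => by
      have hk : c.π.app k.left ⁻¹ᵁ (D.map k.hom ⁻¹ᵁ V) ≤ c.π.app i₀ ⁻¹ᵁ V := by
        rw [← Scheme.Hom.comp_preimage, c.w]
      have h0 : (c.π.app k.left).app (D.map k.hom ⁻¹ᵁ V) s = 0 := by
        have key : (c.π.app k.left).app (D.map k.hom ⁻¹ᵁ V) =
            (c.π.app k.left).appLE _ _ (le_stage D c i₀ k) ≫ c.pt.presheaf.map (homOfLE hk).op := by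
          erw [Scheme.Hom.appLE_map]
          rw [Scheme.Hom.app_eq_appLE]
        refine (congr($key s)).trans ?_
        exact (congrArg (c.pt.presheaf.map (homOfLE hk).op) hs).trans (map_zero _)
      obtain ⟨j, φ, hj⟩ := exists_app_map_eq_zero_of_isLimit D c hc (hV.preimage (D.map k.hom)).isCompact s h0
      refine ⟨Over.mk (φ ≫ k.hom), Over.homMk φ rfl, ?_⟩
      show (D.map φ).appLE _ (D.map (φ ≫ k.hom) ⁻¹ᵁ V) _ s = 0
      rw [Scheme.Hom.appLE, CommRingCat.comp_apply]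
      exact (congrArg ((D.obj j).presheaf.map (homOfLE _).op) hj).trans (map_zero _) }

variable {X₀ : Scheme.{u}} (g₀ : X₀ ⟶ D.obj i₀)

include hc in
/-- Transversal regularity at all points of the limit iff at all points of some stage. -/
theorem forall_atPt_iff [CompactSpace X₀] [LocallyOfFinitePresentation g₀] (fs : List Γ(X₀, ⊤)) :
    (∀ x, AtPt (pullback.snd g₀ (c.π.app i₀)) (fs.map (pullback.fst g₀ (c.π.app i₀)).appTop.hom) x) ↔
      ∃ k : Over i₀, ∀ x,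
        AtPt (pullback.snd g₀ (D.map k.hom)) (fs.map (pullback.fst g₀ (D.map k.hom)).appTop.hom) x := by
  classical
  have hch : ∀ x : X₀, ∃ (V : (D.obj i₀).Opens) (W : X₀.Opens),
      IsAffineOpen V ∧ IsAffineOpen W ∧ W ≤ g₀ ⁻¹ᵁ V ∧ x ∈ W := by
    intro x
    obtain ⟨_, ⟨V, hV, rfl⟩, hyV, -⟩ :=
      (D.obj i₀).isBasis_affineOpens.exists_subset_of_mem_open (Set.mem_univ (g₀ x)) isOpen_univ
    obtain ⟨_, ⟨W, hW, rfl⟩, hxW, hWV⟩ :=
      X₀.isBasis_affineOpens.exists_subset_of_mem_open (a := x) (u := ↑(g₀ ⁻¹ᵁ V)) hyV (g₀ ⁻¹ᵁ V).2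
    exact ⟨V, W, hV, hW, hWV, hxW⟩
  choose Vc Wc hVc hWc hWV hxW using hch
  have haff : IsAffineHom (c.π.app i₀) := isAffineHom_π_app D c hc i₀
  have hfp : ∀ a, @Algebra.FinitePresentation Γ(D.obj i₀, Vc a) Γ(X₀, Wc a) _ _
      (g₀.appLE (Vc a) (Wc a) (hWV a)).hom.toAlgebra := fun a =>
    g₀.finitePresentation_appLE (hVc a) (hWc a) (hWV a)
  let C : X₀ → Over i₀ → Prop := fun a k =>
    @Crit Γ(D.obj i₀, Vc a) Γ(X₀, Wc a) _ _ (g₀.appLE (Vc a) (Wc a) (hWV a)).hom.toAlgebra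
      (RegLimLib.res fs (Wc a)) Γ(D.obj k.left, D.map k.hom ⁻¹ᵁ Vc a) _
      ((D.map k.hom).appLE (Vc a) _ le_rfl).hom.toAlgebra
  have hmono : ∀ a {k l : Over i₀} (_ : l ⟶ k), C a k → C a l := by
    intro a k l φ h
    letI := (g₀.appLE (Vc a) (Wc a) (hWV a)).hom.toAlgebra
    letI := ((D.map k.hom).appLE (Vc a) _ le_rfl).hom.toAlgebra
    letI := ((D.map l.hom).appLE (Vc a) _ le_rfl).hom.toAlgebra
    letI : Algebra Γ(D.obj i₀, Vc a) Γ(c.pt, c.π.app i₀ ⁻¹ᵁ Vc a) :=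
      ((c.π.app i₀).appLE (Vc a) _ le_rfl).hom.toAlgebra
    let τ := (system D c hc i₀ (hVc a)).τ φ
    letI : Algebra Γ(D.obj k.left, D.map k.hom ⁻¹ᵁ Vc a) Γ(D.obj l.left, D.map l.hom ⁻¹ᵁ Vc a) :=
      τ.toRingHom.toAlgebra
    haveI : IsScalarTower Γ(D.obj i₀, Vc a) Γ(D.obj k.left, D.map k.hom ⁻¹ᵁ Vc a)
        Γ(D.obj l.left, D.map l.hom ⁻¹ᵁ Vc a) := .of_algebraMap_eq fun r => (τ.commutes r).symm
    exact Crit.baseChange _ h
  constructor
  · intro h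
    have hstage : ∀ a, ∃ k, C a k := by
      intro a
      haveI := hfp a
      letI := (g₀.appLE (Vc a) (Wc a) (hWV a)).hom.toAlgebra
      letI : Algebra Γ(D.obj i₀, Vc a) Γ(c.pt, c.π.app i₀ ⁻¹ᵁ Vc a) :=
        ((c.π.app i₀).appLE (Vc a) _ le_rfl).hom.toAlgebra
      have hP := IsPullback.of_hasPullback g₀ (c.π.app i₀)
      obtain ⟨hWR, -⟩ := PullbackMod.isPushout_appLE hP (hVc a) (hWc a) ((hVc a).preimage (c.π.app i₀)) (hWV a) le_rfl
      have hA := (piece_iff hP fs (hVc a) (hWc a) (hWV a) ((hVc a).preimage (c.π.app i₀)) le_rfl).1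
        (affine_of_atPt hWR ((hVc a).preimage (c.π.app i₀)) inf_le_right fun x _ => h x)
      have hdir : ∀ i j : Over i₀, ∃ k, Nonempty (k ⟶ i) ∧ Nonempty (k ⟶ j) := fun i j =>
        ⟨IsCofiltered.min i j, ⟨IsCofiltered.minToLeft i j⟩, ⟨IsCofiltered.minToRight i j⟩⟩
      obtain ⟨k, -, hk⟩ := exists_stage (RegLimLib.res fs (Wc a)) (system D c hc i₀ (hVc a))
        (Over.mk (𝟙 i₀)) hdir hA
      exact ⟨k, hk⟩
    choose kc hkc using hstage
    obtain ⟨t, ht⟩ := isCompact_univ.elim_finite_subcover (fun a => (Wc a : Set X₀)) (fun a => (Wc a).2)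
      (fun x _ => Set.mem_iUnion.2 ⟨x, hxW x⟩)
    obtain ⟨k, hk⟩ := IsCofiltered.inf_objs_exists (t.image kc)
    refine ⟨k, fun z => ?_⟩
    obtain ⟨a, ha, hza⟩ := Set.mem_iUnion₂.1 (ht (Set.mem_univ (pullback.fst g₀ (D.map k.hom) z)))
    have hP := IsPullback.of_hasPullback g₀ (D.map k.hom)
    obtain ⟨hWk, -⟩ := PullbackMod.isPushout_appLE hP (hVc a) (hWc a) ((hVc a).preimage (D.map k.hom)) (hWV a) le_rfl
    refine atPt_of_affine hWk ((hVc a).preimage (D.map k.hom)) inf_le_right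
      ((piece_iff hP fs (hVc a) (hWc a) (hWV a) ((hVc a).preimage (D.map k.hom)) le_rfl).2
        (hmono a (hk (Finset.mem_image_of_mem kc ha)).some (hkc a))) z ⟨hza, ?_⟩
    show D.map k.hom (pullback.snd g₀ (D.map k.hom) z) ∈ Vc a
    rw [← Scheme.Hom.comp_apply, ← pullback.condition, Scheme.Hom.comp_apply]
    exact hWV a hza
  · rintro ⟨k, h⟩ z
    let a := pullback.fst g₀ (c.π.app i₀) z
    letI := (g₀.appLE (Vc a) (Wc a) (hWV a)).hom.toAlgebra
    letI : Algebra Γ(D.obj i₀, Vc a) Γ(c.pt, c.π.app i₀ ⁻¹ᵁ Vc a) :=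
      ((c.π.app i₀).appLE (Vc a) _ le_rfl).hom.toAlgebra
    letI := ((D.map k.hom).appLE (Vc a) _ le_rfl).hom.toAlgebra
    have hPk := IsPullback.of_hasPullback g₀ (D.map k.hom)
    obtain ⟨hWk, -⟩ := PullbackMod.isPushout_appLE hPk (hVc a) (hWc a) ((hVc a).preimage (D.map k.hom)) (hWV a) le_rfl
    have hCk : C a k := (piece_iff hPk fs (hVc a) (hWc a) (hWV a) ((hVc a).preimage (D.map k.hom)) le_rfl).1
      (affine_of_atPt hWk ((hVc a).preimage (D.map k.hom)) inf_le_right fun x _ => h x)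
    let ρ := (system D c hc i₀ (hVc a)).ρ k
    letI : Algebra Γ(D.obj k.left, D.map k.hom ⁻¹ᵁ Vc a) Γ(c.pt, c.π.app i₀ ⁻¹ᵁ Vc a) := ρ.toRingHom.toAlgebra
    haveI : IsScalarTower Γ(D.obj i₀, Vc a) Γ(D.obj k.left, D.map k.hom ⁻¹ᵁ Vc a)
        Γ(c.pt, c.π.app i₀ ⁻¹ᵁ Vc a) := .of_algebraMap_eq fun r => (ρ.commutes r).symm
    letI algA : Algebra Γ(D.obj i₀, Vc a) Γ(((Functor.const I).obj c.pt).obj i₀, c.π.app i₀ ⁻¹ᵁ Vc a) :=
      ((c.π.app i₀).appLE (Vc a) _ le_rfl).hom.toAlgebra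
    letI : Algebra Γ(D.obj k.left, D.map k.hom ⁻¹ᵁ Vc a)
        Γ(((Functor.const I).obj c.pt).obj i₀, c.π.app i₀ ⁻¹ᵁ Vc a) := ρ.toRingHom.toAlgebra
    haveI : IsScalarTower Γ(D.obj i₀, Vc a) Γ(D.obj k.left, D.map k.hom ⁻¹ᵁ Vc a)
        Γ(((Functor.const I).obj c.pt).obj i₀, c.π.app i₀ ⁻¹ᵁ Vc a) := .of_algebraMap_eq fun r => (ρ.commutes r).symm
    have hP := IsPullback.of_hasPullback g₀ (c.π.app i₀)
    obtain ⟨hWR, -⟩ := PullbackMod.isPushout_appLE hP (hVc a) (hWc a) ((hVc a).preimage (c.π.app i₀)) (hWV a) le_rfl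
    refine atPt_of_affine hWR ((hVc a).preimage (c.π.app i₀)) inf_le_right
      ((piece_iff hP fs (hVc a) (hWc a) (hWV a) ((hVc a).preimage (c.π.app i₀)) le_rfl).2
        (Crit.baseChange _ hCk)) z ⟨hxW a, ?_⟩
    show c.π.app i₀ (pullback.snd g₀ (c.π.app i₀) z) ∈ Vc a
    rw [← Scheme.Hom.comp_apply, ← pullback.condition, Scheme.Hom.comp_apply]
    exact hWV a (hxW a)

end Limit

end Groth.Agent.TransRegLib

end
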