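import Mathlib.RingTheory.Extension.Presentation.Core
import Mathlib.RingTheory.Adjoin.FG

/-!
# A finitely presented algebra with finitely many elements comes from a Noetherian base
-/

set_option autoImplicit false

universe u

open TensorProduct

noncomputable section

namespace Groth.Agent.TransRegLib

attribute [local instance] Algebra.TensorProduct.rightAlgebra

open Algebra in
/-- The model of a presentation over any base containing its coefficients. -/
theorem model_of_hasCoeffs {A₀ B₀ ι σ : Type u} [CommRing A₀] [CommRing B₀] [Algebra A₀ B₀] [Finite ι] [Finite σ]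
    (P : Presentation A₀ B₀ ι σ) (R : Type u) [CommRing R] [Algebra R A₀] [Algebra R B₀]
    [IsScalarTower R A₀ B₀] [P.HasCoeffs R] :
    ∃ (B : Type u) (_ : CommRing B) (_ : Algebra R B) (_ : Algebra B B₀) (_ : IsScalarTower R B B₀),
      Algebra.FinitePresentation R B ∧ Algebra.IsPushout R A₀ B B₀ ∧
        ∀ q : MvPolynomial ι A₀, q ∈ Set.range (MvPolynomial.map (algebraMap R A₀)) →
          MvPolynomial.aeval P.val q ∈ Set.range (algebraMap B B₀) := by
  let ψ := P.tensorModelOfHasCoeffsEquiv R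
  letI : Algebra (P.ModelOfHasCoeffs R) B₀ :=
    ((ψ.toAlgHom.restrictScalars R).comp Algebra.TensorProduct.includeRight).toRingHom.toAlgebra
  haveI : IsScalarTower R (P.ModelOfHasCoeffs R) B₀ := IsScalarTower.of_algebraMap_eq fun r =>
    (((ψ.toAlgHom.restrictScalars R).comp Algebra.TensorProduct.includeRight).commutes r).symm
  refine ⟨P.ModelOfHasCoeffs R, inferInstance, inferInstance, inferInstance, inferInstance,
    inferInstance, Algebra.IsPushout.of_equiv (R' := A₀) (S := P.ModelOfHasCoeffs R) (S' := A₀ ⊗[R] P.ModelOfHasCoeffs R) ψ (RingHom.ext fun _ => rfl), ?_⟩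
  rintro _ ⟨q, rfl⟩
  refine ⟨Ideal.Quotient.mk _ q, ?_⟩
  show ψ ((1 : A₀) ⊗ₜ[R] Ideal.Quotient.mk _ q) = _
  rw [Algebra.Presentation.tensorModelOfHasCoeffsEquiv_tmul, map_one, one_mul,
    ← MvPolynomial.aeval_map_algebraMap A₀]

/-- Descent of a finitely presented algebra with elements to a Noetherian ring. -/
theorem exists_model {A₀ B₀ : Type u} [CommRing A₀] [CommRing B₀] [Algebra A₀ B₀]
    [Algebra.FinitePresentation A₀ B₀] (fs : List B₀) :
    ∃ (R : Type u) (_ : CommRing R) (_ : Algebra R A₀) (_ : Algebra R B₀) (_ : IsScalarTower R A₀ B₀)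
      (B : Type u) (_ : CommRing B) (_ : Algebra R B) (_ : Algebra B B₀)
      (_ : IsScalarTower R B B₀),
      IsNoetherianRing R ∧ Algebra.FinitePresentation R B ∧ Algebra.IsPushout R A₀ B B₀ ∧
        ∃ fsB : List B, fsB.map (algebraMap B B₀) = fs := by
  classical
  obtain ⟨n, m, ⟨P⟩⟩ := Algebra.Presentation.exists_presentation_fin A₀ B₀
  let P' : Algebra.Presentation A₀ B₀ (ULift.{u} (Fin n)) (ULift.{u} (Fin m)) :=
    P.reindex Equiv.ulift Equiv.ulift
  have hsurj : ∀ b : B₀, ∃ q : P'.Ring, MvPolynomial.aeval P'.val q = b := fun b =>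
    ⟨P'.σ b, P'.aeval_val_σ b⟩
  choose F hF using hsurj
  let cs : Set A₀ := P'.coeffs ∪ ⋃ b ∈ fs.toFinset, ((F b).coeffs : Set A₀)
  have hcs : cs.Finite := P'.finite_coeffs.union
    (fs.toFinset.finite_toSet.biUnion fun b _ => (F b).coeffs.finite_toSet)
  let R : Subalgebra ℤ A₀ := Algebra.adjoin ℤ cs
  haveI : Algebra.FiniteType ℤ R := (Subalgebra.fg_iff_finiteType R).1
    (Subalgebra.fg_def.2 ⟨cs, hcs, rfl⟩)
  haveI : P'.HasCoeffs R := ⟨fun x hx => ⟨⟨x, Algebra.subset_adjoin (Or.inl hx)⟩, rfl⟩⟩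
  obtain ⟨B, i₁, i₂, i₃, i₄, hB, hpo, hlift⟩ := model_of_hasCoeffs P' R
  have hmem : ∀ b ∈ fs, b ∈ Set.range (algebraMap B B₀) := fun b hb => by
    rw [← hF b]
    refine hlift _ ((MvPolynomial.mem_range_map_iff_coeffs_subset).2 fun c hc => ?_)
    exact ⟨⟨c, Algebra.subset_adjoin (Or.inr (Set.mem_biUnion (List.mem_toFinset.2 hb) hc))⟩, rfl⟩
  choose g hg using hmem
  refine ⟨R, inferInstance, inferInstance, inferInstance, inferInstance, B, i₁, i₂, i₃, i₄,
    Algebra.FiniteType.isNoetherianRing ℤ R, hB, hpo, fs.attach.map (fun b => g b.1 b.2), ?_⟩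
  rw [List.map_map]
  exact (List.map_congr_left fun b _ => hg b.1 b.2).trans (List.attach_map_subtype_val fs)

end Groth.Agent.TransRegLib

end
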