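import Groth.Prelude.Def_RegImm
import Groth.Agent.RegLimLib.Basic
import Groth.Agent.FlatStage.AlgGlobal
import Mathlib.RingTheory.FinitePresentation
import Mathlib.RingTheory.Extension.Presentation.Core
import Groth.Agent.TransRegLib.Model

/-!
# Transversally regular sequences and change of the base ring: algebra

A sequence in a finitely presented algebra which becomes transversally regular over the colimit of a
directed system of base rings is already transversally regular over some stage.
-/

set_option autoImplicit false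
set_option backward.isDefEq.respectTransparency false
set_option linter.style.haveILetI false
set_option linter.unusedSectionVars false

universe u

open TensorProduct RingTheory.Sequence
open Groth.Agent

noncomputable section

namespace Groth.Agent.TransRegLib

theorem weaklyRegular_iff_mem {A : Type u} [CommRing A] (rs : List A) : IsWeaklyRegular A rs ↔
    ∀ i (hi : i < rs.length) x, rs[i] * x ∈ Ideal.ofList (rs.take i) → x ∈ Ideal.ofList (rs.take i) :=
  RegLimLib.isWeaklyRegular_iff_forall_mem rs

/-- Transversal regularity is invariant under isomorphisms of algebras. -/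
theorem isTransRegularSeq_of_equiv {T S S' : Type u} [CommRing T] [CommRing S] [CommRing S']
    [Algebra T S] [Algebra T S'] (e : S ≃ₐ[T] S') (rs : List S)
    (h : RegImm.IsTransRegularSeq T S rs) : RegImm.IsTransRegularSeq T S' (rs.map e) := by
  have hmap : ∀ j, (Ideal.ofList (rs.take j)).map e.toRingEquiv.toRingHom = Ideal.ofList ((rs.map e).take j) := by
    intro j
    rw [Ideal.map_ofList, List.map_take]
    rfl
  refine ⟨?_, fun j hj => ?_⟩
  · rw [weaklyRegular_iff_mem]
    intro i hi x hx
    have hi' : i < rs.length := by simpa using hi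
    obtain ⟨x, rfl⟩ := e.surjective x
    rw [List.getElem_map, ← map_mul, ← hmap] at hx
    rw [← hmap]
    have := (Ideal.mem_map_iff_of_surjective _ e.surjective).1 hx
    obtain ⟨y, hy, hye⟩ := this
    have hyx : y = rs[i] * x := e.injective hye
    exact Ideal.mem_map_of_mem _ ((weaklyRegular_iff_mem rs).1 h.1 i hi' x (hyx ▸ hy))
  · haveI := h.2 j (by simpa using hj)
    exact Module.Flat.of_linearEquiv
      (Ideal.quotientEquivAlg _ _ e (hmap j).symm).symm.toLinearEquiv

section Crit

variable (A₀ : Type u) {B₀ : Type u} [CommRing A₀] [CommRing B₀] [Algebra A₀ B₀] (fs : List B₀)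

/-- The partial quotient. -/
abbrev Q (i : ℕ) : Type u := B₀ ⧸ Ideal.ofList (fs.take i)

/-- Multiplication by the next element of the sequence. -/
def mulNext (i : ℕ) (hi : i < fs.length) : Q fs i →ₗ[A₀] Q fs i :=
  LinearMap.mulLeft A₀ (Ideal.Quotient.mk _ fs[i])

/-- The criterion: all partial quotients are flat and each element is a nonzerodivisor. -/
def Crit (T : Type u) [CommRing T] [Algebra A₀ T] : Prop :=
  (∀ i ≤ fs.length, Module.Flat T (T ⊗[A₀] Q fs i)) ∧
    ∀ i (hi : i < fs.length), Function.Injective ((mulNext A₀ fs i hi).lTensor T)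

variable {A₀}

theorem lTensor_mulNext (T : Type u) [CommRing T] [Algebra A₀ T] (i : ℕ) (hi : i < fs.length)
    (z : T ⊗[A₀] Q fs i) :
    (mulNext A₀ fs i hi).lTensor T z = ((1 : T) ⊗ₜ[A₀] Ideal.Quotient.mk _ fs[i]) * z := by
  induction z with
  | zero => simp
  | add x y hx hy => rw [map_add, hx, hy, mul_add]
  | tmul t q => simp [mulNext, Algebra.TensorProduct.tmul_mul_tmul]

theorem crit_iff (T : Type u) [CommRing T] [Algebra A₀ T] :
    RegImm.IsTransRegularSeq T (T ⊗[A₀] B₀) (fs.map fun b => (1 : T) ⊗ₜ[A₀] b) ↔ Crit A₀ fs T := by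
  classical
  let g : ∀ i, T ⊗[A₀] B₀ →ₐ[T] T ⊗[A₀] Q fs i := fun i =>
    Algebra.TensorProduct.map (AlgHom.id T T) (Ideal.Quotient.mkₐ A₀ _)
  have hg : ∀ i, Function.Surjective (g i) := fun i => by
    exact LinearMap.lTensor_surjective T (g := (Ideal.Quotient.mkₐ A₀ (Ideal.ofList (fs.take i))).toLinearMap)
      Ideal.Quotient.mk_surjective
  have hker : ∀ i, RingHom.ker (g i) = Ideal.ofList ((fs.map fun b => (1 : T) ⊗ₜ[A₀] b).take i) := by
    intro i
    have := Algebra.TensorProduct.lTensor_ker (R := A₀) (A := T)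
      (Ideal.Quotient.mkₐ A₀ (Ideal.ofList (fs.take i))) Ideal.Quotient.mk_surjective
    refine Eq.trans ?_ (this.trans ?_)
    · ext z; rfl
    · rw [show RingHom.ker (Ideal.Quotient.mkₐ A₀ (Ideal.ofList (fs.take i))) = Ideal.ofList (fs.take i)
        from Ideal.mk_ker, ← List.map_take]
      exact Ideal.map_ofList _ _
  refine Iff.trans ?_ and_comm
  refine and_congr ?_ ?_
  · rw [weaklyRegular_iff_mem]
    constructor
    · intro h i hi
      rw [injective_iff_map_eq_zero]
      intro z hz
      obtain ⟨x, rfl⟩ := hg i z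
      rw [lTensor_mulNext] at hz
      have hx : g i (((1 : T) ⊗ₜ[A₀] fs[i]) * x) = 0 := by
        rw [map_mul, ← hz]
        simp [g]
      have := h i (by simpa using hi) x (by
        rw [List.getElem_map, ← hker]
        exact hx)
      rw [← hker] at this
      exact this
    · intro h i hi x hx
      have hi' : i < fs.length := by simpa using hi
      rw [← hker] at hx ⊢
      refine (injective_iff_map_eq_zero _).1 (h i hi') (g i x) ?_
      rw [lTensor_mulNext, ← RingHom.mem_ker.1 hx, List.getElem_map, map_mul]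
      simp [g]
  · rw [List.length_map]
    exact forall₂_congr fun i _ => Module.Flat.equiv_iff
      ((Ideal.quotientEquivAlgOfEq T (hker i).symm).toLinearEquiv.trans
        (Ideal.quotientKerAlgEquivOfSurjective (hg i)).toLinearEquiv)

/-- The exact sequence multiplication, next quotient. -/
theorem exact_mulNext (i : ℕ) (hi : i < fs.length) :
    ∃ π : Q fs i →ₗ[A₀] Q fs (i + 1), Function.Surjective π ∧ Function.Exact (mulNext A₀ fs i hi) π := by
  have he : Ideal.ofList (fs.take (i + 1)) = Ideal.ofList (fs.take i) ⊔ Ideal.span {fs[i]} := by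
    rw [List.take_add_one, List.getElem?_eq_getElem hi, Option.toList_some, Ideal.ofList_append,
      Ideal.ofList_singleton]
  have hle : Ideal.ofList (fs.take i) ≤ Ideal.ofList (fs.take (i + 1)) := he ▸ le_sup_left
  refine ⟨(Ideal.Quotient.factorₐ A₀ hle).toLinearMap,
    Ideal.Quotient.factor_surjective hle, fun y => ?_⟩
  obtain ⟨y, rfl⟩ := Ideal.Quotient.mk_surjective y
  rw [AlgHom.toLinearMap_apply, Ideal.Quotient.factorₐ_apply_mk, Ideal.Quotient.eq_zero_iff_mem, he,
    Submodule.mem_sup]
  constructor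
  · rintro ⟨a, ha, b, hb, rfl⟩
    obtain ⟨c, rfl⟩ := Ideal.mem_span_singleton.1 hb
    refine ⟨Ideal.Quotient.mk _ c, ?_⟩
    rw [mulNext, LinearMap.mulLeft_apply, ← map_mul, Ideal.Quotient.eq, sub_add_cancel_right]
    exact neg_mem ha
  · rintro ⟨x, hx⟩
    obtain ⟨c, rfl⟩ := Ideal.Quotient.mk_surjective x
    rw [mulNext, LinearMap.mulLeft_apply, ← map_mul, Ideal.Quotient.eq] at hx
    exact ⟨_, neg_mem hx, fs[i] * c, Ideal.mul_mem_right _ _ (Ideal.mem_span_singleton_self _), by ring⟩

/-- The criterion is stable under change of the base ring. -/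
theorem Crit.baseChange {T T' : Type u} [CommRing T] [CommRing T'] [Algebra A₀ T] [Algebra A₀ T']
    [Algebra T T'] [IsScalarTower A₀ T T'] (h : Crit A₀ fs T) : Crit A₀ fs T' := by
  refine ⟨fun i hi => ?_, fun i hi => ?_⟩
  · haveI := h.1 i hi
    exact FlatStage.flat_of_stage (R := T') T _
  · obtain ⟨π, hπ, hex⟩ := exact_mulNext (A₀ := A₀) fs i hi
    haveI := h.1 (i + 1) hi
    let φT := (mulNext A₀ fs i hi).baseChange T
    let πT := π.baseChange T
    have hinj := LinearMap.lTensor_injective_of_exact_of_flat πT (LinearMap.lTensor_surjective T hπ) φT (h.2 i hi)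
      (lTensor_exact T hex hπ) T'
    let c := AlgebraTensorModule.cancelBaseChange A₀ T T' T' (Q fs i)
    have nat : ∀ z, (mulNext A₀ fs i hi).lTensor T' (c z) = c (φT.lTensor T' z) := by
      intro z
      induction z with
      | zero => simp
      | add x y hx hy => simp only [map_add, hx, hy]
      | tmul s t =>
        induction t with
        | zero => simp
        | add x y hx hy => simp only [TensorProduct.tmul_add, map_add, hx, hy]
        | tmul b m => simp [c, φT]
    intro z w hzw
    obtain ⟨z, rfl⟩ := c.surjective z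
    obtain ⟨w, rfl⟩ := c.surjective w
    rw [nat, nat] at hzw
    exact congrArg c (hinj (c.injective hzw))

end Crit

/-- The system of finitely generated subalgebras. -/
def fgSystem (R T : Type u) [CommRing R] [CommRing T] [Algebra R T] : PullbackMod.AlgSystem R T where
  J := {S : Subalgebra R T // S.FG}
  R S := S.1
  ρ S := S.1.val
  Hom S S' := ULift (PLift (S.1 ≤ S'.1))
  τ f := Subalgebra.inclusion f.down.down
  comm _ := rfl
  comp f g := ⟨⟨⟨f.down.down.trans g.down.down⟩⟩, rfl⟩
  surj S b := ⟨⟨S.1 ⊔ Algebra.adjoin R {b}, S.2.sup ⟨{b}, by simp⟩⟩, ⟨⟨le_sup_left⟩⟩,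
    ⟨b, (le_sup_right : Algebra.adjoin R {b} ≤ _) (Algebra.subset_adjoin rfl)⟩, rfl⟩
  inj S a h := ⟨S, ⟨⟨le_rfl⟩⟩, by
    have : a = 0 := Subtype.ext h
    rw [this, map_zero]⟩

/-- Restriction of scalars of a system. -/
def restrict {A₀ A : Type u} [CommRing A₀] [CommRing A] [Algebra A₀ A] (S : PullbackMod.AlgSystem A₀ A)
    (R : Type u) [CommRing R] [Algebra R A₀] [Algebra R A] [IsScalarTower R A₀ A] :
    PullbackMod.AlgSystem R A where
  J := S.J
  R := S.R
  alg j := ((algebraMap A₀ (S.R j)).comp (algebraMap R A₀)).toAlgebra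
  ρ j :=
    letI : Algebra R (S.R j) := ((algebraMap A₀ (S.R j)).comp (algebraMap R A₀)).toAlgebra
    { toRingHom := (S.ρ j).toRingHom
      commutes' := fun r => ((S.ρ j).commutes _).trans (IsScalarTower.algebraMap_apply R A₀ A r).symm }
  Hom := S.Hom
  τ {j k} f :=
    letI : Algebra R (S.R j) := ((algebraMap A₀ (S.R j)).comp (algebraMap R A₀)).toAlgebra
    letI : Algebra R (S.R k) := ((algebraMap A₀ (S.R k)).comp (algebraMap R A₀)).toAlgebra
    { toRingHom := (S.τ f).toRingHom
      commutes' := fun r => (S.τ f).commutes _ }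
  comm {j k} f := by
    letI : Algebra R (S.R j) := ((algebraMap A₀ (S.R j)).comp (algebraMap R A₀)).toAlgebra
    exact AlgHom.ext fun x => DFunLike.congr_fun (S.comm f) x
  comp {j k l} f g := by
    letI : Algebra R (S.R j) := ((algebraMap A₀ (S.R j)).comp (algebraMap R A₀)).toAlgebra
    letI : Algebra R (S.R l) := ((algebraMap A₀ (S.R l)).comp (algebraMap R A₀)).toAlgebra
    obtain ⟨h, hh⟩ := S.comp f g
    exact ⟨h, AlgHom.ext fun x => DFunLike.congr_fun hh x⟩
  surj := S.surj
  inj := S.inj

/-- The criterion only depends on the algebra up to base change. -/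
theorem crit_iff_of_isPushout {R A₀ B B₀ T : Type u} [CommRing R] [CommRing A₀] [CommRing B] [CommRing B₀]
    [CommRing T] [Algebra R A₀] [Algebra R B] [Algebra A₀ B₀] [Algebra B B₀] [Algebra R B₀]
    [IsScalarTower R A₀ B₀] [IsScalarTower R B B₀] [Algebra.IsPushout R A₀ B B₀]
    [Algebra R T] [Algebra A₀ T] [IsScalarTower R A₀ T] (fsB : List B) :
    Crit A₀ (fsB.map (algebraMap B B₀)) T ↔ Crit R fsB T := by
  rw [← crit_iff, ← crit_iff]
  let e : T ⊗[A₀] B₀ ≃ₐ[T] T ⊗[R] B :=
    (Algebra.TensorProduct.congr AlgEquiv.refl (Algebra.IsPushout.equiv R A₀ B B₀).symm).trans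
      (Algebra.TensorProduct.cancelBaseChange R A₀ T T B)
  have he : ∀ b : B, e ((1 : T) ⊗ₜ[A₀] algebraMap B B₀ b) = (1 : T) ⊗ₜ[R] b := fun b => by
    simp [e, Algebra.IsPushout.equiv_symm_algebraMap_right]
  have hl : ((fsB.map (algebraMap B B₀)).map fun b => (1 : T) ⊗ₜ[A₀] b).map e =
      fsB.map fun b => (1 : T) ⊗ₜ[R] b := by
    simp only [List.map_map]
    exact List.map_congr_left fun b _ => he b
  constructor
  · intro h
    exact hl ▸ isTransRegularSeq_of_equiv e _ h
  · intro h
    have := isTransRegularSeq_of_equiv e.symm _ h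
    rw [← hl, List.map_map] at this
    simpa [Function.comp_def] using this

/-- Injectivity of a map with flat cokernel is stable under change of the base ring. -/
theorem injective_baseChange {A₀ M N C T T' : Type u} [CommRing A₀] [AddCommGroup M] [Module A₀ M]
    [AddCommGroup N] [Module A₀ N] [AddCommGroup C] [Module A₀ C] [CommRing T] [CommRing T']
    [Algebra A₀ T] [Algebra A₀ T'] [Algebra T T'] [IsScalarTower A₀ T T']
    (u : M →ₗ[A₀] N) (π : N →ₗ[A₀] C) (hπ : Function.Surjective π) (hex : Function.Exact u π)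
    [Module.Flat T (T ⊗[A₀] C)] (h : Function.Injective (u.lTensor T)) :
    Function.Injective (u.lTensor T') := by
  have hinj := LinearMap.lTensor_injective_of_exact_of_flat (π.baseChange T)
    (LinearMap.lTensor_surjective T hπ) (u.baseChange T) h (lTensor_exact T hex hπ) T'
  let cM := AlgebraTensorModule.cancelBaseChange A₀ T T' T' M
  let cN := AlgebraTensorModule.cancelBaseChange A₀ T T' T' N
  have nat : ∀ z, u.lTensor T' (cM z) = cN ((u.baseChange T).lTensor T' z) := by
    intro z
    induction z with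
    | zero => simp
    | add x y hx hy => simp only [map_add, hx, hy]
    | tmul s t =>
      induction t with
      | zero => simp
      | add x y hx hy => simp only [TensorProduct.tmul_add, map_add, hx, hy]
      | tmul b m => simp [cM, cN]
  intro z w hzw
  obtain ⟨z, rfl⟩ := cM.surjective z
  obtain ⟨w, rfl⟩ := cM.surjective w
  rw [nat, nat] at hzw
  exact congrArg cM (hinj (cN.injective hzw))

/-- Over a Noetherian base with flat cokernel, injectivity over the colimit holds at a stage. -/
theorem exists_injective_stage {R R' Q A C : Type u} [CommRing R] [CommRing R'] [Algebra R R'] [CommRing Q]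
    [Algebra R Q] [CommRing A] [Algebra R A] [AddCommGroup C] [Module R C]
    [IsNoetherianRing (R' ⊗[R] Q)] (S : PullbackMod.AlgSystem R A) (k : S.J) (θ : R' →ₐ[R] S.R k)
    (a : Q) (π : Q →ₗ[R] C) (hπ : Function.Surjective π)
    (hex : Function.Exact (LinearMap.mulLeft R a) π) [Module.Flat R' (R' ⊗[R] C)]
    (hA : Function.Injective ((LinearMap.mulLeft R a).lTensor A)) :
    ∃ (l : S.J) (_ : S.Hom k l), Function.Injective ((LinearMap.mulLeft R a).lTensor (S.R l)) := by
  classical
  let u := LinearMap.mulLeft R a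
  let ψ := u.baseChange R'
  let K : Ideal (R' ⊗[R] Q) :=
    LinearMap.ker (LinearMap.mulLeft (R' ⊗[R] Q) ((1 : R') ⊗ₜ[R] a))
  have hmul : ∀ x, ψ x = ((1 : R') ⊗ₜ[R] a) * x := by
    intro x
    induction x with
    | zero => simp
    | add x y hx hy => rw [map_add, hx, hy, mul_add]
    | tmul r q => simp [ψ, u, Algebra.TensorProduct.tmul_mul_tmul]
  obtain ⟨G, hG⟩ : K.FG := IsNoetherian.noetherian K
  let ι : R' ⊗[R] Q →ₐ[R] S.R k ⊗[R] Q := Algebra.TensorProduct.map θ (AlgHom.id R Q)
  have hzero : ∀ z ∈ G, (S.ρ k).toLinearMap.rTensor Q (ι z) = 0 := by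
    intro z hz
    apply hA
    have h0 : ψ z = 0 := (hmul z).trans (hG ▸ Submodule.subset_span hz : z ∈ K)
    rw [map_zero, ← PullbackMod.AlgSystem.natural]
    refine (congrArg ((S.ρ k).toLinearMap.rTensor Q) ?_).trans (map_zero _)
    exact ((PullbackMod.AlgSystem.natural θ u z).symm.trans (congrArg ι h0)).trans (map_zero ι)
  obtain ⟨l, g, hl⟩ := S.exists_zero_finset (M := Q) k (G.image ι) (fun z hz => by
    obtain ⟨y, hy, rfl⟩ := Finset.mem_image.1 hz
    exact hzero y hy)
  refine ⟨l, g, ?_⟩
  letI : Algebra R' (S.R l) := ((S.τ g).comp θ).toRingHom.toAlgebra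
  haveI : IsScalarTower R R' (S.R l) := .of_algebraMap_eq fun r => (((S.τ g).comp θ).commutes r).symm
  have hex' : Function.Exact ψ (π.baseChange R') := lTensor_exact R' hex hπ
  haveI : Module.Flat R' ((R' ⊗[R] Q) ⧸ LinearMap.range ψ) :=
    Module.Flat.of_linearEquiv ((Submodule.quotEquivOfEq _ _ hex'.linearMap_ker_eq.symm).trans
      (LinearMap.quotKerEquivOfSurjective (π.baseChange R') (LinearMap.lTensor_surjective R' hπ)))
  have hrange : Function.Injective ((LinearMap.range ψ).subtype.lTensor (S.R l)) :=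
    LinearMap.lTensor_injective_of_exact_of_flat (LinearMap.range ψ).mkQ
      (Submodule.mkQ_surjective _) _ (Submodule.injective_subtype _) (LinearMap.exact_subtype_mkQ _) _
  let c := AlgebraTensorModule.cancelBaseChange R R' (S.R l) (S.R l) Q
  have nat : ∀ z, u.lTensor (S.R l) (c z) = c (ψ.lTensor (S.R l) z) := by
    intro z
    induction z with
    | zero => simp
    | add x y hx hy => simp only [map_add, hx, hy]
    | tmul s t =>
      induction t with
      | zero => simp
      | add x y hx hy => simp only [TensorProduct.tmul_add, map_add, hx, hy]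
      | tmul b q => simp [c, ψ]
  rw [injective_iff_map_eq_zero]
  intro z hz
  obtain ⟨z, rfl⟩ := c.surjective z
  rw [nat, map_eq_zero_iff _ c.injective] at hz
  have hexK : Function.Exact ((LinearMap.ker ψ).subtype.lTensor (S.R l)) (ψ.rangeRestrict.lTensor (S.R l)) :=
    lTensor_exact (M := LinearMap.ker ψ) (S.R l) (fun y => by
      refine ⟨fun hy => ⟨⟨y, congrArg Subtype.val hy⟩, rfl⟩, ?_⟩
      rintro ⟨y', rfl⟩
      exact Subtype.ext y'.2) ψ.surjective_rangeRestrict
  obtain ⟨t, rfl⟩ := (hexK z).1 (hrange (by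
    rw [map_zero, ← LinearMap.lTensor_comp_apply, LinearMap.subtype_comp_codRestrict]
    exact hz))
  clear hz
  let jm : R' ⊗[R] Q →ₐ[R] S.R l ⊗[R] Q := Algebra.TensorProduct.map ((S.τ g).comp θ) (AlgHom.id R Q)
  have hjm : K ≤ RingHom.ker jm := by
    rw [← hG]
    refine Ideal.span_le.2 fun y hy => ?_
    have hj : jm y = (S.τ g).toLinearMap.rTensor _ (ι y) := by
      clear hy
      induction y with
      | zero => simp
      | add x y hx hy => simp only [map_add, hx, hy]
      | tmul r q => simp [jm, ι]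
    rw [SetLike.mem_coe, RingHom.mem_ker, hj]
    exact hl _ (Finset.mem_image_of_mem _ hy)
  have hc : ∀ r q, c (r ⊗ₜ q) = r • jm q := by
    intro r q
    induction q with
    | zero => simp
    | add x y hx hy => simp only [TensorProduct.tmul_add, map_add, hx, hy, smul_add]
    | tmul b m =>
      simp [c, jm, TensorProduct.smul_tmul', Algebra.smul_def, RingHom.algebraMap_toAlgebra, mul_comm]
  induction t with
  | zero => simp
  | add x y hx hy => simp only [map_add, hx, hy, add_zero]
  | tmul r q =>
    obtain ⟨q, hq⟩ := q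
    rw [LinearMap.lTensor_tmul, Submodule.subtype_apply]
    show c (r ⊗ₜ q) = 0
    have hqK : q ∈ K := (hmul q).symm.trans hq
    rw [hc, RingHom.mem_ker.1 (hjm hqK), smul_zero]

/-- Transversal regularity over the colimit holds at some stage. -/
theorem exists_stage {A₀ B₀ : Type u} [CommRing A₀] [CommRing B₀] [Algebra A₀ B₀]
    [Algebra.FinitePresentation A₀ B₀] (fs : List B₀) {A : Type u} [CommRing A] [Algebra A₀ A]
    (S : PullbackMod.AlgSystem A₀ A) (j₀ : S.J)
    (hdir : ∀ i j : S.J, ∃ k, Nonempty (S.Hom i k) ∧ Nonempty (S.Hom j k)) (h : Crit A₀ fs A) :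
    ∃ (k : S.J) (_ : S.Hom j₀ k), Crit A₀ fs (S.R k) := by
  classical
  obtain ⟨R, _, _, _, _, B, _, _, _, _, hRN, hB, hpo, fsB, rfl⟩ := exists_model (A₀ := A₀) fs
  letI : Algebra R A := ((algebraMap A₀ A).comp (algebraMap R A₀)).toAlgebra
  haveI : IsScalarTower R A₀ A := IsScalarTower.of_algebraMap_eq (R := R) (S := A₀) (A := A) fun _ => rfl
  haveI := hRN
  haveI := hB
  haveI := hpo
  rw [crit_iff_of_isPushout (R := R)] at h
  suffices H : ∃ (k : S.J) (_ : S.Hom j₀ k),
      @Crit R B _ _ _ fsB (S.R k) _ ((algebraMap A₀ (S.R k)).comp (algebraMap R A₀)).toAlgebra by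
    obtain ⟨k, f, hk⟩ := H
    letI : Algebra R (S.R k) := ((algebraMap A₀ (S.R k)).comp (algebraMap R A₀)).toAlgebra
    haveI : IsScalarTower R A₀ (S.R k) := .of_algebraMap_eq fun _ => rfl
    exact ⟨k, f, (crit_iff_of_isPushout (R := R) fsB).2 hk⟩
  let S' := restrict S R
  -- flatness at a common stage
  have hflat : ∀ n, n ≤ fsB.length + 1 → ∃ (k : S'.J) (_ : S'.Hom j₀ k),
      ∀ i < n, Module.Flat (S'.R k) (S'.R k ⊗[R] Q fsB i) := by
    intro n
    induction n with
    | zero =>
      intro _
      obtain ⟨k, f, -, -⟩ := S'.surj j₀ 0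
      exact ⟨k, f, fun i hi => absurd hi (Nat.not_lt_zero i)⟩
    | succ n ih =>
      intro hn
      obtain ⟨k, f, hk⟩ := ih (Nat.le_of_succ_le hn)
      haveI : Module.FinitePresentation B (Q fsB n) :=
        Module.finitePresentation_of_surjective (Submodule.mkQ (Ideal.ofList (fsB.take n)))
          (Submodule.mkQ_surjective _) (by
            rw [Submodule.ker_mkQ]
            exact ⟨(fsB.take n).toFinset, by simp [Ideal.ofList]⟩)
      obtain ⟨l, g, hl⟩ := FlatStage.exists_flat_stage (A := R) (B := B) (M := Q fsB n) S' k hdir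
        (h.1 n (Nat.le_of_succ_le_succ hn))
      obtain ⟨e, -⟩ := S'.comp f g
      letI : Algebra (S'.R k) (S'.R l) := (S'.τ g).toRingHom.toAlgebra
      haveI : IsScalarTower R (S'.R k) (S'.R l) := .of_algebraMap_eq fun a => ((S'.τ g).commutes a).symm
      refine ⟨l, e, fun i hi => ?_⟩
      rcases Nat.lt_succ_iff_lt_or_eq.1 hi with hi | rfl
      · haveI := hk i hi
        exact FlatStage.flat_of_stage (R := S'.R l) (S'.R k) _
      · exact hl
  obtain ⟨k, f, hk⟩ := hflat _ le_rfl
  -- a Noetherian subalgebra over which the quotients are flat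
  let U := fgSystem R (S'.R k)
  have hUdir : ∀ i j : U.J, ∃ l, Nonempty (U.Hom i l) ∧ Nonempty (U.Hom j l) := fun i j =>
    ⟨⟨i.1 ⊔ j.1, i.2.sup j.2⟩, ⟨⟨⟨le_sup_left⟩⟩⟩, ⟨⟨⟨le_sup_right⟩⟩⟩⟩
  have hflatU : ∀ n, n ≤ fsB.length + 1 → ∃ (T : U.J),
      ∀ i < n, Module.Flat (U.R T) (U.R T ⊗[R] Q fsB i) := by
    intro n
    induction n with
    | zero => exact fun _ => ⟨⟨⊥, Subalgebra.fg_bot⟩, fun i hi => absurd hi (Nat.not_lt_zero i)⟩
    | succ n ih =>
      intro hn
      obtain ⟨T, hT⟩ := ih (Nat.le_of_succ_le hn)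
      haveI : Module.FinitePresentation B (Q fsB n) :=
        Module.finitePresentation_of_surjective (Submodule.mkQ (Ideal.ofList (fsB.take n)))
          (Submodule.mkQ_surjective _) (by
            rw [Submodule.ker_mkQ]
            exact ⟨(fsB.take n).toFinset, by simp [Ideal.ofList]⟩)
      obtain ⟨T', g, hl⟩ := FlatStage.exists_flat_stage (A := R) (B := B) (M := Q fsB n) U T hUdir
        (hk n hn)
      letI : Algebra (U.R T) (U.R T') := (U.τ g).toRingHom.toAlgebra
      haveI : IsScalarTower R (U.R T) (U.R T') := .of_algebraMap_eq fun a => ((U.τ g).commutes a).symm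
      refine ⟨T', fun i hi => ?_⟩
      rcases Nat.lt_succ_iff_lt_or_eq.1 hi with hi | rfl
      · haveI := hT i hi
        exact FlatStage.flat_of_stage (R := U.R T') (U.R T) _
      · exact hl
  obtain ⟨T, hT⟩ := hflatU _ le_rfl
  let R' := U.R T
  haveI : Algebra.FiniteType R R' := (Subalgebra.fg_iff_finiteType T.1).1 T.2
  haveI : ∀ i, IsNoetherianRing (R' ⊗[R] Q fsB i) := fun i =>
    haveI : Algebra.FiniteType R' (R' ⊗[R] Q fsB i) := inferInstance
    haveI : IsNoetherianRing R' := Algebra.FiniteType.isNoetherianRing R R'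
    Algebra.FiniteType.isNoetherianRing R' _
  have hinj : ∀ n, n ≤ fsB.length → ∃ (l : S'.J) (_ : S'.Hom k l),
      ∀ i (hi : i < fsB.length), i < n → Function.Injective ((mulNext R fsB i hi).lTensor (S'.R l)) := by
    intro n
    induction n with
    | zero =>
      intro _
      obtain ⟨l, g, -, -⟩ := S'.surj k 0
      exact ⟨l, g, fun i _ hi => absurd hi (Nat.not_lt_zero i)⟩
    | succ n ih =>
      intro hn
      obtain ⟨l, g, hl⟩ := ih (Nat.le_of_succ_le hn)
      obtain ⟨π, hπ, hex⟩ := exact_mulNext (A₀ := R) fsB n hn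
      haveI : Module.Flat R' (R' ⊗[R] Q fsB (n + 1)) := hT (n + 1) (Nat.succ_lt_succ hn)
      obtain ⟨m, g', hm⟩ := exists_injective_stage S' l ((S'.τ g).comp (U.ρ T)) _ π hπ hex (h.2 n hn)
      obtain ⟨e, he⟩ := S'.comp g g'
      refine ⟨m, e, fun i hi hin => ?_⟩
      rcases Nat.lt_succ_iff_lt_or_eq.1 hin with hi' | rfl
      · obtain ⟨π, hπ, hex⟩ := exact_mulNext (A₀ := R) fsB i hi
        letI : Algebra (S'.R l) (S'.R m) := (S'.τ g').toRingHom.toAlgebra
        haveI : IsScalarTower R (S'.R l) (S'.R m) := .of_algebraMap_eq fun a => ((S'.τ g').commutes a).symm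
        letI : Algebra (S'.R k) (S'.R l) := (S'.τ g).toRingHom.toAlgebra
        haveI : IsScalarTower R (S'.R k) (S'.R l) := .of_algebraMap_eq fun a => ((S'.τ g).commutes a).symm
        haveI := hk (i + 1) (Nat.succ_lt_succ hi)
        haveI : Module.Flat (S'.R l) (S'.R l ⊗[R] Q fsB (i + 1)) :=
          FlatStage.flat_of_stage (R := S'.R l) (S'.R k) _
        exact injective_baseChange _ π hπ hex (hl i hi hi')
      · exact hm
  obtain ⟨l, g, hl⟩ := hinj _ le_rfl
  obtain ⟨e, -⟩ := S'.comp f g
  letI : Algebra (S'.R k) (S'.R l) := (S'.τ g).toRingHom.toAlgebra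
  haveI : IsScalarTower R (S'.R k) (S'.R l) := .of_algebraMap_eq fun a => ((S'.τ g).commutes a).symm
  refine ⟨l, e, fun i hi => ?_, fun i hi => hl i hi hi⟩
  haveI := hk i (Nat.lt_succ_of_le hi)
  exact FlatStage.flat_of_stage (R := S'.R l) (S'.R k) _

end Groth.Agent.TransRegLib

end
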