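import Groth.Agent.TransRegLib.Sch
import Groth.Agent.RelDivLib.ImmBC

/-!
# Transversally regular immersions: base change and change of charts
-/

set_option autoImplicit false
set_option backward.isDefEq.respectTransparency false
set_option backward.defeqAttrib.useBackward true
set_option linter.style.haveILetI false
set_option linter.unusedSectionVars false

universe u

open CategoryTheory CategoryTheory.Limits AlgebraicGeometry RingTheory.Sequence TensorProduct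
open Groth.Agent

noncomputable section

namespace Groth.Agent.TransRegLib

theorem flat_tensor {A B B' M : Type u} [CommRing A] [CommRing B] [CommRing B'] [Algebra A B] [Algebra B B']
    [Algebra A B'] [IsScalarTower A B B'] [AddCommGroup M] [Module B M] [Module A M] [IsScalarTower A B M]
    [Module.Flat B B'] [Module.Flat A M] : Module.Flat A (B' ⊗[B] M) := by
  rw [Module.Flat.iff_lTensor_preserves_injective_linearMap]
  intro N P _ _ _ _ f hf
  let g := AlgebraTensorModule.lTensor B M f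
  have h1 : Function.Injective (g.lTensor B') :=
    Module.Flat.lTensor_preserves_injective_linearMap (M := B') g
      (Module.Flat.lTensor_preserves_injective_linearMap (M := M) f hf)
  let eN := AlgebraTensorModule.assoc A B B B' M N
  let eP := AlgebraTensorModule.assoc A B B B' M P
  have nat : ∀ z, eP (f.lTensor (B' ⊗[B] M) z) = g.lTensor B' (eN z) := by
    intro z
    induction z with
    | zero => simp
    | add x y hx hy => simp only [map_add, hx, hy]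
    | tmul s n =>
      induction s with
      | zero => simp
      | add x y hx hy => simp only [TensorProduct.add_tmul, map_add, hx, hy]
      | tmul b m => simp [eN, eP, g]
  intro z w hzw
  refine eN.injective (h1 ?_)
  rw [← nat, ← nat, hzw]

/-- Localising (or any flat base change of the total ring) preserves transversal regularity. -/
theorem isTransRegularSeq_of_flat {A B B' : Type u} [CommRing A] [CommRing B] [CommRing B'] [Algebra A B]
    [Algebra B B'] [Algebra A B'] [IsScalarTower A B B'] [Module.Flat B B'] {rs : List B}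
    (h : RegImm.IsTransRegularSeq A B rs) : RegImm.IsTransRegularSeq A B' (rs.map (algebraMap B B')) := by
  refine ⟨IsWeaklyRegular.of_flat h.1, fun j hj => ?_⟩
  haveI := h.2 j (by simpa using hj)
  haveI : Module.Flat A (B' ⊗[B] (B ⧸ Ideal.ofList (rs.take j))) := flat_tensor
  rw [← List.map_take, ← Ideal.map_ofList]
  let e₁ : (B' ⊗[B] (B ⧸ Ideal.ofList (rs.take j))) ≃ₗ[B] (B' ⧸ Ideal.ofList (rs.take j) • (⊤ : Submodule B B')) :=
    TensorProduct.tensorQuotEquivQuotSMul B' _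
  let e₂ : (B' ⧸ Ideal.ofList (rs.take j) • (⊤ : Submodule B B')) ≃ₗ[B]
      (B' ⧸ (Ideal.ofList (rs.take j)).map (algebraMap B B')) :=
    (Submodule.quotEquivOfEq _ _ (Ideal.smul_top_eq_map _)).trans
      (Submodule.Quotient.restrictScalarsEquiv B _)
  exact Module.Flat.of_linearEquiv ((e₁.trans e₂).restrictScalars A).symm

theorem crit_self_iff {A B : Type u} [CommRing A] [CommRing B] [Algebra A B] (rs : List B) :
    Crit A rs A ↔ RegImm.IsTransRegularSeq A B rs := by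
  rw [← crit_iff]
  let e : A ⊗[A] B ≃ₐ[A] B := Algebra.TensorProduct.lid A B
  have hl : (rs.map fun b => (1 : A) ⊗ₜ[A] b).map e = rs := by
    rw [List.map_map]
    exact (List.map_congr_left fun b _ => by simp [e]).trans (List.map_id rs)
  constructor
  · intro h
    exact hl ▸ isTransRegularSeq_of_equiv e _ h
  · intro h
    have := isTransRegularSeq_of_equiv e.symm _ h
    refine (congrArg (RegImm.IsTransRegularSeq A (A ⊗[A] B)) (List.map_congr_left fun b _ => ?_)).mp this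
    simp [e]

/-- An affine piece of a base change, for a list of local functions. -/
theorem piece_iff' {X₀ S₀ S' P : Scheme.{u}} {g₀ : X₀ ⟶ S₀} {q : S' ⟶ S₀} {pX : P ⟶ X₀} {pS : P ⟶ S'}
    (hP : IsPullback pX pS g₀ q) {V : S₀.Opens} (hV : IsAffineOpen V) {W : X₀.Opens}
    (hW : IsAffineOpen W) (eW : W ≤ g₀ ⁻¹ᵁ V) {V' : S'.Opens} (hV' : IsAffineOpen V') (eV : V' ≤ q ⁻¹ᵁ V)
    (ws : List Γ(X₀, W)) {U : P.Opens} (hU : U = pX ⁻¹ᵁ W ⊓ pS ⁻¹ᵁ V') (eUV : U ≤ pS ⁻¹ᵁ V') (eUW : U ≤ pX ⁻¹ᵁ W) :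
    (@RegImm.IsTransRegularSeq Γ(S', V') Γ(P, U) _ _ (pS.appLE V' U eUV).hom.toAlgebra
        (ws.map (pX.appLE W U eUW).hom)) ↔
      @Crit Γ(S₀, V) Γ(X₀, W) _ _ (g₀.appLE V W eW).hom.toAlgebra ws Γ(S', V') _
        (q.appLE V V' eV).hom.toAlgebra := by
  subst hU
  obtain ⟨hWk, hpo⟩ := PullbackMod.isPushout_appLE hP hV hW hV' eW eV
  let Wk := pX ⁻¹ᵁ W ⊓ pS ⁻¹ᵁ V'
  letI : Algebra Γ(S₀, V) Γ(X₀, W) := (g₀.appLE V W eW).hom.toAlgebra
  letI : Algebra Γ(S₀, V) Γ(S', V') := (q.appLE V V' eV).hom.toAlgebra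
  letI : Algebra Γ(X₀, W) Γ(P, Wk) := (pX.appLE W Wk inf_le_left).hom.toAlgebra
  letI : Algebra Γ(S', V') Γ(P, Wk) := (pS.appLE V' Wk inf_le_right).hom.toAlgebra
  letI : Algebra Γ(S₀, V) Γ(P, Wk) :=
    ((pX.appLE W Wk inf_le_left).hom.comp (g₀.appLE V W eW).hom).toAlgebra
  haveI : IsScalarTower Γ(S₀, V) Γ(X₀, W) Γ(P, Wk) := .of_algebraMap_eq fun _ => rfl
  haveI : IsScalarTower Γ(S₀, V) Γ(S', V') Γ(P, Wk) := .of_algebraMap_eq' (by
      show ((g₀.appLE V W eW) ≫ pX.appLE W _ inf_le_left).hom =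
        ((q.appLE V V' eV) ≫ pS.appLE V' _ inf_le_right).hom
      simp only [Scheme.Hom.appLE_comp_appLE, hP.w])
  haveI : Algebra.IsPushout Γ(S₀, V) Γ(S', V') Γ(X₀, W) Γ(P, Wk) := hpo
  let ψ := Algebra.IsPushout.equiv Γ(S₀, V) Γ(S', V') Γ(X₀, W) Γ(P, Wk)
  rw [← crit_iff]
  have hl : ws.map (pX.appLE W Wk eUW).hom = (ws.map fun b => (1 : Γ(S', V')) ⊗ₜ[Γ(S₀, V)] b).map ψ := by
    simp only [List.map_map]
    refine List.map_congr_left fun f _ => ?_
    simp only [Function.comp_apply, ψ, Algebra.IsPushout.equiv_tmul, map_one, one_mul]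
    rfl
  rw [hl]
  constructor
  · intro h
    have := isTransRegularSeq_of_equiv ψ.symm _ h
    simpa [Function.comp_def] using this
  · exact isTransRegularSeq_of_equiv ψ _

/-- Base change of transversal regularity at a point. -/
theorem at_baseChange {X X' S S' Y Y' : Scheme.{u}} {f : X ⟶ S} {f' : X' ⟶ S'} {p : X' ⟶ X} {q : S' ⟶ S}
    (sqX : IsPullback p f' f q) [IsAffineHom q] {i : Y ⟶ X} {i' : Y' ⟶ X'} {r : Y' ⟶ Y}
    (sqY : IsPullback r i' i p) (z' : Y') (h : RegImm.IsTransRegularImmersionAt f i (r z')) :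
    RegImm.IsTransRegularImmersionAt f' i' z' := by
  obtain ⟨U, V, e, hzU, hcl, rs, htr, hker⟩ := h
  have hV' : IsAffineOpen (q ⁻¹ᵁ V.1) := V.2.preimage q
  obtain ⟨hU', -⟩ := PullbackMod.isPushout_appLE sqX V.2 U.2 hV' e le_rfl
  have hz' : i' z' ∈ p ⁻¹ᵁ U.1 ⊓ f' ⁻¹ᵁ (q ⁻¹ᵁ V.1) := by
    have h1 : p (i' z') ∈ U.1 := by
      rw [← Scheme.Hom.comp_apply, ← sqY.w, Scheme.Hom.comp_apply]
      exact hzU
    refine ⟨h1, ?_⟩
    show q (f' (i' z')) ∈ V.1
    rw [← Scheme.Hom.comp_apply, ← sqX.w, Scheme.Hom.comp_apply]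
    exact e h1
  obtain ⟨hcl', hker'⟩ := RelDivLib.closed_and_ker_pullback sqY U.2 hcl hU' inf_le_left
  refine ⟨⟨_, hU'⟩, ⟨_, hV'⟩, inf_le_right, hz', hcl', rs.map (p.appLE U.1 _ inf_le_left).hom, ?_, ?_⟩
  · refine (piece_iff' sqX V.2 U.2 e hV' le_rfl rs rfl inf_le_right inf_le_left).2 ?_
    letI : Algebra Γ(S, V.1) Γ(X, U.1) := (f.appLE V.1 U.1 e).hom.toAlgebra
    letI : Algebra Γ(S, V.1) Γ(S', q ⁻¹ᵁ V.1) := (q.appLE V.1 _ le_rfl).hom.toAlgebra
    exact Crit.baseChange (A₀ := Γ(S, V.1)) (T := Γ(S, V.1)) _ ((crit_self_iff rs).2 htr)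
  · rw [hker', hker, Ideal.map_ofList]

/-- Around a point of transversal regularity the chart downstairs can be prescribed. -/
theorem exists_chart {X S Y : Scheme.{u}} {f : X ⟶ S} {i : Y ⟶ X} {z : Y}
    (h : RegImm.IsTransRegularImmersionAt f i z) {V₁ : S.Opens} (hV₁ : IsAffineOpen V₁) (hz : f (i z) ∈ V₁) :
    ∃ Q : X.Opens, i z ∈ Q ∧ ∀ (W : X.Opens), IsAffineOpen W → W ≤ Q → ∀ (V₂ : S.Opens), V₂ = V₁ →
      ∀ eW : W ≤ f ⁻¹ᵁ V₂, ∃ rs : List Γ(X, W),
        @RegImm.IsTransRegularSeq Γ(S, V₂) Γ(X, W) _ _ (f.appLE V₂ W eW).hom.toAlgebra rs ∧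
          RingHom.ker (i.app W).hom = Ideal.ofList rs := by
  obtain ⟨U, V, e, hzU, hcl, rs, htr, hker⟩ := h
  obtain ⟨a, b, hab, hya⟩ := exists_basicOpen_le_affine_inter V.2 hV₁ (f (i z)) ⟨e hzU, hz⟩
  refine ⟨U.1 ⊓ f ⁻¹ᵁ S.basicOpen a, ⟨hzU, hya⟩, fun W hW hWQ V₂ hV₂ eW => ?_⟩
  subst V₂
  have hWU : W ≤ (𝟙 X : X ⟶ X) ⁻¹ᵁ U.1 := hWQ.trans inf_le_left
  have hWa : W ≤ f ⁻¹ᵁ S.basicOpen a := hWQ.trans inf_le_right
  obtain ⟨-, hkW⟩ := RelDivLib.closed_and_ker_pullback (i := i) (i' := i)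
    (IsPullback.of_horiz_isIso ⟨(Category.id_comp _).trans (Category.comp_id _).symm⟩) U.2 hcl hW hWU
  let ρ := ((𝟙 X : X ⟶ X).appLE U.1 W hWU).hom
  refine ⟨rs.map ρ, ?_, by rw [hkW, hker, Ideal.map_ofList]⟩
  letI : Algebra Γ(S, V.1) Γ(X, U.1) := (f.appLE V.1 U.1 e).hom.toAlgebra
  letI : Algebra Γ(X, U.1) Γ(X, W) := ρ.toAlgebra
  letI : Algebra Γ(S, V.1) Γ(X, W) := (ρ.comp (f.appLE V.1 U.1 e).hom).toAlgebra
  haveI : IsScalarTower Γ(S, V.1) Γ(X, U.1) Γ(X, W) := .of_algebraMap_eq fun _ => rfl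
  haveI : Module.Flat Γ(X, U.1) Γ(X, W) :=
    HasRingHomProperty.appLE (P := @Flat) (𝟙 X) inferInstance U ⟨W, hW⟩ hWU
  have h1 : RegImm.IsTransRegularSeq Γ(S, V.1) Γ(X, W) (rs.map (algebraMap Γ(X, U.1) Γ(X, W))) :=
    isTransRegularSeq_of_flat htr
  letI : Algebra Γ(S, V₁) Γ(X, W) := (f.appLE V₁ W eW).hom.toAlgebra
  refine ⟨h1.1, fun j hj => ?_⟩
  haveI hflat := h1.2 j hj
  let A' := Γ(S, S.basicOpen a)
  have ea : S.basicOpen a ≤ (𝟙 S : S ⟶ S) ⁻¹ᵁ V.1 := S.basicOpen_le a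
  have eb : S.basicOpen a ≤ (𝟙 S : S ⟶ S) ⁻¹ᵁ V₁ := hab.le.trans (S.basicOpen_le b)
  letI : Algebra A' Γ(X, W) := (f.appLE _ W hWa).hom.toAlgebra
  letI : Algebra Γ(S, V.1) A' := (S.presheaf.map (homOfLE (S.basicOpen_le a)).op).hom.toAlgebra
  haveI : IsScalarTower Γ(S, V.1) A' Γ(X, W) := .of_algebraMap_eq' (by
    show ((f.appLE V.1 U.1 e) ≫ (𝟙 X : X ⟶ X).appLE U.1 W hWU).hom =
      (S.presheaf.map (homOfLE (S.basicOpen_le a)).op ≫ f.appLE _ W hWa).hom
    rw [Scheme.Hom.map_appLE, Scheme.Hom.appLE_comp_appLE]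
    simp only [Category.id_comp])
  haveI : IsLocalization.Away a A' := V.2.isLocalization_of_eq_basicOpen a (homOfLE (S.basicOpen_le a)) rfl
  haveI hA' : Module.Flat A' (Γ(X, W) ⧸ Ideal.ofList ((rs.map ρ).take j)) :=
    (Module.flat_iff_of_isLocalization A' (Submonoid.powers a) _).2 hflat
  letI : Algebra Γ(S, V₁) A' := (S.presheaf.map (homOfLE (hab.le.trans (S.basicOpen_le b))).op).hom.toAlgebra
  haveI : IsScalarTower Γ(S, V₁) A' Γ(X, W) := .of_algebraMap_eq' (by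
    show (f.appLE V₁ W eW).hom =
      (S.presheaf.map (homOfLE (hab.le.trans (S.basicOpen_le b))).op ≫ f.appLE _ W hWa).hom
    rw [Scheme.Hom.map_appLE])
  haveI : IsLocalization.Away b A' := by
    refine hV₁.isLocalization_of_eq_basicOpen b (homOfLE (hab.le.trans (S.basicOpen_le b))) hab
  exact (Module.flat_iff_of_isLocalization A' (Submonoid.powers b) _).1 hA'

end Groth.Agent.TransRegLib

end
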